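/-
The arithmetic of the exceptional characters for a centraliser dihedral of order 8.
-/
import Mathlib

set_option autoImplicit false

namespace Cfsg.Agent.Lib.DihedralCentralizer.Arith

theorem key_sq {k n : ℤ} (hk : 1 ≤ k) {a b : ℤ} (hn : 8 ∣ n) (hpos : 0 < n)
    (hcop1 : ∀ m : ℤ, 0 < m → m ∣ k → m ∣ a → m = 1) (hcop2 : ∀ m : ℤ, 0 < m → m ∣ k → m ∣ b → m = 1)
    (h : n * k ^ 2 = 8 * a * b) : k = 1 ∨ (k = 2 ∧ 8 ∣ 2 * a * b) := by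
  have hca : IsCoprime (k ^ 2) (a * b) := by
    have h1 : ∀ c : ℤ, (∀ m : ℤ, 0 < m → m ∣ k → m ∣ c → m = 1) → IsCoprime k c := by
      intro c hc
      rw [Int.isCoprime_iff_gcd_eq_one]
      have := hc (Int.gcd k c : ℤ) (by
        have : Int.gcd k c ≠ 0 := fun h0 => by
          rw [Int.gcd_eq_zero_iff] at h0; omega
        positivity) (Int.gcd_dvd_left _ _) (Int.gcd_dvd_right _ _)
      exact_mod_cast this
    exact ((h1 a hcop1).mul_right (h1 b hcop2)).pow_left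
  have hd : k ^ 2 ∣ 8 := hca.dvd_of_dvd_mul_right ⟨n, by rw [mul_comm] at h; linarith [mul_assoc (8:ℤ) a b]⟩
  have hk2 : k ^ 2 ≤ 8 := Int.le_of_dvd (by norm_num) hd
  have : k ≤ 2 := by nlinarith
  rcases (show k = 1 ∨ k = 2 by omega) with rfl | rfl
  · exact Or.inl rfl
  · refine Or.inr ⟨rfl, ?_⟩
    obtain ⟨j, rfl⟩ := hn
    exact ⟨j, by linarith⟩

/-- The degrees `d₁`, `d₂`, `d₃`, `d₄` determine the order. -/
theorem order_eq {n : ℕ} {d₁ d₂ d₃ d₄ σ τ e₃ e₄ : ℤ} (hn : 8 ∣ n) (hpos : 0 < n)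
    (h₁ : 0 < d₁) (h₂ : 0 < d₂) (h₃ : 0 < d₃) (h₄ : 0 < d₄)
    (hσ : σ = 1 ∨ σ = -1) (hτ : τ = 1 ∨ τ = -1) (he₃ : e₃ = 1 ∨ e₃ = -1) (he₄ : e₄ = 1 ∨ e₄ = -1)
    (hone : d₁ ≠ 1) (hc₃ : 4 ∣ d₃ + e₃)
    (hv : 1 + σ * d₁ + τ * d₂ = 0) (hu : 1 + σ * d₁ + e₃ * d₃ + e₄ * d₄ = 0)
    (hSa : (n : ℚ) * (1 + (σ : ℚ) / d₁ + (e₃ : ℚ) / d₃ + (e₄ : ℚ) / d₄) = 256)
    (hSt : (n : ℚ) * (1 + (σ : ℚ) / d₁ + 8 * (τ : ℚ) / d₂ - (e₃ : ℚ) / d₃ - (e₄ : ℚ) / d₄) = 256) :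
    n = 168 ∨ n = 360 := by
  have q₁ : (d₁ : ℚ) ≠ 0 := Int.cast_ne_zero.2 h₁.ne'
  have q₂ : (d₂ : ℚ) ≠ 0 := Int.cast_ne_zero.2 h₂.ne'
  have q₃ : (d₃ : ℚ) ≠ 0 := Int.cast_ne_zero.2 h₃.ne'
  have q₄ : (d₄ : ℚ) ≠ 0 := Int.cast_ne_zero.2 h₄.ne'
  have hn0 : (n : ℚ) ≠ 0 := Nat.cast_ne_zero.2 hpos.ne'
  have hA : (4 : ℚ) * τ * (d₃ * d₄) = d₂ * (e₃ * d₄ + e₄ * d₃) := by
    have h := mul_left_cancel₀ hn0 (hSa.trans hSt.symm)
    field_simp at h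
    have h' : ((e₃ : ℚ) * d₄ + e₄ * d₃) * d₂ * d₁ * 2 = 8 * τ * d₃ * d₄ * d₁ := by linear_combination h
    apply mul_right_cancel₀ q₁
    linear_combination (-(1:ℚ)/2) * h'
  have hA' : 4 * τ * (d₃ * d₄) = d₂ * (e₃ * d₄ + e₄ * d₃) := by exact_mod_cast hA
  have hD : e₃ * d₃ + e₄ * d₄ = τ * d₂ := by linarith
  have hee : e₃ = τ ∧ e₄ = τ := by
    rcases hτ with rfl | rfl <;> rcases he₃ with rfl | rfl <;> rcases he₄ with rfl | rfl <;>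
      first
      | exact ⟨rfl, rfl⟩
      | (exfalso; nlinarith [mul_pos h₃ h₄, mul_pos h₂ h₃, mul_pos h₂ h₄])
  obtain ⟨rfl, rfl⟩ := hee
  have hd34 : d₃ = d₄ ∧ d₂ = 2 * d₃ := by
    have hsum : d₃ + d₄ = d₂ := by
      rcases hτ with rfl | rfl <;> linarith
    have hprod : 4 * (d₃ * d₄) = d₂ * (d₃ + d₄) := by
      rcases hτ with rfl | rfl <;> linarith
    rw [← hsum] at hprod
    have : (d₃ - d₄) ^ 2 = 0 := by nlinarith
    have := pow_eq_zero_iff two_ne_zero |>.1 this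
    exact ⟨by linarith, by linarith⟩
  obtain ⟨rfl, rfl⟩ := hd34
  have hS : (n : ℤ) * (d₁ * d₃ + σ * d₃ + 2 * e₄ * d₁) = 256 * d₁ * d₃ := by
    have h : (n : ℚ) * (d₁ * d₃ + σ * d₃ + 2 * e₄ * d₁) = 256 * d₁ * d₃ := by
      rw [← hSa]; field_simp; ring
    exact_mod_cast h
  rcases hσ with rfl | rfl <;> rcases hτ with rfl | rfl
  · exfalso; linarith
  · -- `σ = 1`
    obtain ⟨k, hk⟩ := hc₃
    have hd : d₃ = 4 * k + 1 := by linarith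
    have hd1 : d₁ = 8 * k + 1 := by linarith
    have hk1 : 1 ≤ k := by omega
    subst hd hd1
    have key : (n : ℤ) * k ^ 2 = 8 * (8 * k + 1) * (4 * k + 1) := by linarith
    rcases key_sq hk1 (by exact_mod_cast hn) (by exact_mod_cast hpos)
      (fun m hm h h' => Int.eq_one_of_dvd_one hm.le (by simpa using dvd_sub h' (dvd_mul_of_dvd_right h 8)))
      (fun m hm h h' => Int.eq_one_of_dvd_one hm.le (by simpa using dvd_sub h' (dvd_mul_of_dvd_right h 4))) key with rfl | ⟨rfl, h⟩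
    · right; omega
    · norm_num at h
  · -- `σ = -1`
    obtain ⟨k, hk⟩ := hc₃
    have hd : d₃ = 4 * k - 1 := by linarith
    have hd1 : d₁ = 8 * k - 1 := by linarith
    have hk1 : 1 ≤ k := by omega
    subst hd hd1
    have key : (n : ℤ) * k ^ 2 = 8 * (8 * k - 1) * (4 * k - 1) := by linarith
    rcases key_sq hk1 (by exact_mod_cast hn) (by exact_mod_cast hpos)
      (fun m hm h h' => Int.eq_one_of_dvd_one hm.le (by simpa using dvd_sub (dvd_mul_of_dvd_right h 8) h'))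
      (fun m hm h h' => Int.eq_one_of_dvd_one hm.le (by simpa using dvd_sub (dvd_mul_of_dvd_right h 4) h')) key with rfl | ⟨rfl, h⟩
    · left; omega
    · norm_num at h
  · exfalso; linarith

end Cfsg.Agent.Lib.DihedralCentralizer.Arith
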