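/-
A group without subgroups of index two having an involution with centraliser dihedral of order 8
is simple.
-/
import Mathlib
import Cfsg.Agent.Lib.Involutions.IndexTwo
import Cfsg.Agent.Lib.SylowInter.CharLocal
import Cfsg.Agent.Lib.PGroups.Omega

set_option autoImplicit false

namespace Cfsg.Agent.Lib.DihedralCentralizer

variable {G : Type*} [Group G] [Finite G] {t : G}

theorem card_centralizer (e : ↥(Subgroup.centralizer ({t} : Set G)) ≃* DihedralGroup 4) :
    Nat.card ↥(Subgroup.centralizer ({t} : Set G)) = 8 := by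
  rw [Nat.card_congr e.toEquiv, Nat.card_eq_fintype_card]
  rfl

theorem isPGroup_centralizer (e : ↥(Subgroup.centralizer ({t} : Set G)) ≃* DihedralGroup 4) :
    IsPGroup 2 ↥(Subgroup.centralizer ({t} : Set G)) :=
  IsPGroup.of_card (n := 3) (by rw [card_centralizer e]; rfl)

/-- A central element of the centraliser is `1` or `t`. -/
theorem eq_of_central (ht : orderOf t = 2) (e : ↥(Subgroup.centralizer ({t} : Set G)) ≃* DihedralGroup 4)
    {z : G} (hz : z ∈ Subgroup.centralizer ({t} : Set G))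
    (hc : ∀ c ∈ Subgroup.centralizer ({t} : Set G), c * z = z * c) : z = 1 ∨ z = t := by
  have key : ∀ d : DihedralGroup 4, (∀ c, c * d = d * c) → d = 1 ∨ d = DihedralGroup.r 2 := by decide
  have htC : t ∈ Subgroup.centralizer ({t} : Set G) := Subgroup.mem_centralizer_singleton_iff.2 rfl
  have hcz : ∀ (y : G) (hy : y ∈ Subgroup.centralizer ({t} : Set G)),
      (∀ c ∈ Subgroup.centralizer ({t} : Set G), c * y = y * c) → e ⟨y, hy⟩ = 1 ∨ e ⟨y, hy⟩ = DihedralGroup.r 2 := by
    intro y hy h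
    refine key _ fun c => ?_
    obtain ⟨c, rfl⟩ := e.surjective c
    rw [← map_mul, ← map_mul]
    exact congrArg e (Subtype.ext (h c c.2))
  have ht1 : t ≠ 1 := fun h => by rw [h, orderOf_one] at ht; norm_num at ht
  have het : e ⟨t, htC⟩ = DihedralGroup.r 2 := by
    refine (hcz t htC fun c hc => Subgroup.mem_centralizer_singleton_iff.1 hc).resolve_left fun h => ?_
    exact ht1 (congrArg Subtype.val ((MulEquiv.map_eq_one_iff e).1 h))
  rcases hcz z hz hc with h | h
  · exact Or.inl (congrArg Subtype.val ((MulEquiv.map_eq_one_iff e).1 h))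
  · exact Or.inr (congrArg Subtype.val (e.injective (h.trans het.symm)))

/-- The centraliser is a Sylow 2-subgroup. -/
theorem exists_sylow (ht : orderOf t = 2) (e : ↥(Subgroup.centralizer ({t} : Set G)) ≃* DihedralGroup 4) :
    ∃ S : Sylow 2 G, (S : Subgroup G) = Subgroup.centralizer ({t} : Set G) := by
  obtain ⟨T, hT⟩ := (isPGroup_centralizer e).exists_le_sylow
  refine ⟨T, le_antisymm (fun x hx => ?_) hT⟩
  set C := Subgroup.centralizer ({t} : Set G) with hC
  haveI : Group.IsNilpotent ↥(T : Subgroup G) := T.2.isNilpotent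
  by_contra hxC
  have hlt : C.subgroupOf (T : Subgroup G) < ⊤ := lt_top_iff_ne_top.2 fun h => hxC (by
    have : (⟨x, hx⟩ : ↥(T : Subgroup G)) ∈ C.subgroupOf (T : Subgroup G) := h ▸ Subgroup.mem_top _
    exact this)
  obtain ⟨y, hyN, hyC⟩ := SetLike.exists_of_lt (Group.normalizerCondition_of_isNilpotent _ hlt)
  have htC : t ∈ C := Subgroup.mem_centralizer_singleton_iff.2 rfl
  have hn : ∀ c, c ∈ C → (y : G) * c * (y : G)⁻¹ ∈ C ∧ (y : G)⁻¹ * c * (y : G) ∈ C := by
    intro c hc
    have h1 := ((Subgroup.mem_normalizer_iff).1 hyN ⟨c, hT hc⟩).1 hc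
    have h2 := ((Subgroup.mem_normalizer_iff).1 (Subgroup.inv_mem _ hyN) ⟨c, hT hc⟩).1 hc
    refine ⟨h1, ?_⟩
    simpa [Subgroup.mem_subgroupOf] using h2
  rcases eq_of_central ht e (hn t htC).1 fun c hc => by
    have h := Subgroup.mem_centralizer_singleton_iff.1 (hn c hc).2
    calc c * ((y : G) * t * (y : G)⁻¹) = y * ((y : G)⁻¹ * c * y * t) * (y : G)⁻¹ := by group
      _ = y * (t * ((y : G)⁻¹ * c * y)) * (y : G)⁻¹ := by rw [h]
      _ = _ := by group with h | h
  · rw [conj_eq_one_iff] at h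
    rw [h, orderOf_one] at ht; norm_num at ht
  · exact hyC (Subgroup.mem_centralizer_singleton_iff.2 (mul_inv_eq_iff_eq_mul.1 h))

variable (hG : ∀ H : Subgroup G, H.index ≠ 2)
include hG

/-- The conjugates of `t` generate the group. -/
theorem normalClosure_eq_top (ht : orderOf t = 2) (e : ↥(Subgroup.centralizer ({t} : Set G)) ≃* DihedralGroup 4) :
    Subgroup.normalClosure ({t} : Set G) = ⊤ := by
  obtain ⟨S, hS⟩ := exists_sylow ht e
  set M := Subgroup.normalClosure ({t} : Set G) with hM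
  have htM : t ∈ M := Subgroup.subset_normalClosure rfl
  by_contra hMtop
  have h2index : ¬ 2 ∣ M.index → False := fun hodd => by
    -- `S ≤ M`, so Frattini gives `G = M N(S) = M C(t)`
    have hSM : (S : Subgroup G) ≤ M := by
      intro s hs
      by_contra hsM
      have h1 : orderOf (QuotientGroup.mk' M s) ∣ M.index := by
        rw [Subgroup.index_eq_card]; exact orderOf_dvd_natCard _
      obtain ⟨k, hk⟩ := IsPGroup.iff_orderOf.1 S.2 ⟨s, hs⟩
      rw [Subgroup.orderOf_mk] at hk
      have h2 : orderOf (QuotientGroup.mk' M s) ∣ 2 ^ k := hk ▸ orderOf_map_dvd _ s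
      obtain ⟨i, -, hi⟩ := (Nat.dvd_prime_pow Nat.prime_two).1 h2
      rcases i with _ | i
      · rw [pow_zero, orderOf_eq_one_iff] at hi
        exact hsM ((QuotientGroup.eq_one_iff s).1 hi)
      · exact hodd ((hi ▸ dvd_pow_self 2 i.succ_ne_zero).trans h1)
    have hF := Sylow.normalizer_sup_eq_top (S.subtype hSM)
    refine hMtop (top_le_iff.1 (hF ▸ sup_le ?_ le_rfl))
    intro n hn
    rw [Sylow.coe_subtype, Subgroup.map_subgroupOf_eq_of_le hSM] at hn
    refine hSM (hS ▸ Subgroup.mem_centralizer_singleton_iff.2 ?_)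
    have htS : t ∈ (S : Subgroup G) := hS ▸ Subgroup.mem_centralizer_singleton_iff.2 rfl
    have hc := eq_of_central ht e (z := n * t * n⁻¹) (hS ▸ ((Subgroup.mem_normalizer_iff).1 hn t).1 htS) ?_
    · rcases hc with h | h
      · rw [conj_eq_one_iff] at h
        rw [h, orderOf_one] at ht; norm_num at ht
      · exact mul_inv_eq_iff_eq_mul.1 h
    · intro c hc
      rw [← hS] at hc
      have hc' := ((Subgroup.mem_normalizer_iff).1 (Subgroup.inv_mem _ hn) c).1 hc
      rw [hS, inv_inv, Subgroup.mem_centralizer_singleton_iff] at hc'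
      calc c * (n * t * n⁻¹) = n * (n⁻¹ * c * n * t) * n⁻¹ := by group
        _ = n * (t * (n⁻¹ * c * n)) * n⁻¹ := by rw [hc']
        _ = _ := by group
  by_cases h4 : M.index % 4 = 2
  · haveI : M.Normal := Subgroup.normalClosure_normal
    obtain ⟨H, hH⟩ := Cfsg.Agent.Lib.Involutions.IndexTwo.exists_index_two_of_mod_four (G := G ⧸ M)
      (by rw [← Subgroup.index_eq_card]; exact h4)
    exact hG _ (by rw [Subgroup.index_comap_of_surjective _ (QuotientGroup.mk'_surjective M)]; exact hH)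
  by_cases hodd : ¬ 2 ∣ M.index
  · exact h2index hodd
  -- `4 ∣ [G : M]`, so `M ∩ S = ⟨t⟩`
  have h4' : 4 ∣ M.index := by omega
  have hcard : Nat.card ↥(M ⊓ (S : Subgroup G)) = 2 := by
    have hdvd : Nat.card ↥(M ⊓ (S : Subgroup G)) ∣ 8 := by
      rw [← card_centralizer e, ← hS]; exact Subgroup.card_dvd_of_le inf_le_right
    have h2d : 2 ∣ Nat.card ↥(M ⊓ (S : Subgroup G)) := by
      have hmem : t ∈ M ⊓ (S : Subgroup G) := ⟨htM, hS ▸ Subgroup.mem_centralizer_singleton_iff.2 rfl⟩
      have h := orderOf_dvd_natCard (⟨t, hmem⟩ : ↥(M ⊓ (S : Subgroup G)))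
      rwa [Subgroup.orderOf_mk, ht] at h
    have hG8 : ¬ 16 ∣ Nat.card G := fun h => by
      have := S.card_eq_multiplicity
      rw [show Nat.card ↥(S : Subgroup G) = 2 ^ 3 by rw [hS, card_centralizer e]; rfl] at this
      have h3 := Nat.pow_right_injective (le_refl 2) this
      have : 4 ≤ (Nat.card G).factorization 2 :=
        (Nat.Prime.pow_dvd_iff_le_factorization Nat.prime_two Nat.card_pos.ne').1 h
      omega
    obtain ⟨i, hi, hcard⟩ := (Nat.dvd_prime_pow Nat.prime_two (m := 3)).1 hdvd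
    have hlt : Nat.card ↥(M ⊓ (S : Subgroup G)) < 4 := by
      by_contra hge
      refine hG8 ?_
      have h4c : 4 ∣ Nat.card ↥M := by
        refine Dvd.dvd.trans ?_ (Subgroup.card_dvd_of_le (inf_le_left : M ⊓ (S : Subgroup G) ≤ M))
        rw [hcard] at hge ⊢
        interval_cases i <;> simp_all
      rw [← Subgroup.card_mul_index M]
      exact Nat.mul_dvd_mul h4c h4'
    rw [hcard] at hlt h2d ⊢
    interval_cases i <;> simp_all
  -- then `M ∩ S` is a Sylow subgroup of `M` centralised by `C(t)`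
  haveI : Fact (Nat.Prime 2) := ⟨Nat.prime_two⟩
  have hMS : Subgroup.zpowers t = M ⊓ (S : Subgroup G) := by
    refine Subgroup.eq_of_le_of_card_ge ?_ (by rw [hcard, Nat.card_zpowers, ht])
    rw [Subgroup.zpowers_le]
    exact ⟨htM, hS ▸ Subgroup.mem_centralizer_singleton_iff.2 rfl⟩
  haveI : M.Normal := Subgroup.normalClosure_normal
  obtain ⟨P, hP⟩ : ∃ P : Sylow 2 ↥M, (P : Subgroup ↥M).map M.subtype = Subgroup.zpowers t := by
    have hZ : Subgroup.zpowers t ≤ M := Subgroup.zpowers_le.2 htM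
    have h2c : (Nat.card ↥M).factorization 2 = 1 := by
      obtain ⟨P⟩ := (inferInstance : Nonempty (Sylow 2 ↥M))
      have hPm : Nat.card ↥((P : Subgroup ↥M).map M.subtype) = Nat.card ↥(P : Subgroup ↥M) :=
        Subgroup.card_map_of_injective M.subtype_injective
      obtain ⟨Q, hQ⟩ := (P.2.map M.subtype).exists_le_sylow
      obtain ⟨g, hg⟩ := MulAction.exists_smul_eq G Q S
      have hle : ((P : Subgroup ↥M).map M.subtype).map (MulAut.conj g).toMonoidHom ≤ M ⊓ (S : Subgroup G) := by
        rintro _ ⟨x, hx, rfl⟩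
        refine ⟨?_, ?_⟩
        · obtain ⟨y, -, rfl⟩ := hx
          exact Subgroup.Normal.conj_mem inferInstance _ y.2 g
        · rw [← hg, Sylow.coe_subgroup_smul]
          exact ⟨x, hQ hx, rfl⟩
      have := Subgroup.card_le_of_le hle
      rw [Subgroup.card_map_of_injective (MulAut.conj g).injective, hPm, hcard, P.card_eq_multiplicity] at this
      have h1 : 2 ∣ Nat.card ↥M := by
        rw [← ht, ← Subgroup.orderOf_mk t htM]; exact orderOf_dvd_natCard _
      have := (Nat.Prime.dvd_iff_one_le_factorization Nat.prime_two Nat.card_pos.ne').1 h1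
      by_contra hne
      have : 2 ^ 2 ≤ 2 ^ ((Nat.card ↥M).factorization 2) := Nat.pow_le_pow_right (by norm_num) (by omega)
      omega
    refine ⟨Sylow.ofCard ((Subgroup.zpowers t).subgroupOf M) ?_, Subgroup.map_subgroupOf_eq_of_le hZ⟩
    rw [Nat.card_congr (Subgroup.subgroupOfEquivOfLe hZ).toEquiv, Nat.card_zpowers, ht, h2c]
    rfl
  have hF := Sylow.normalizer_sup_eq_top P
  rw [hP] at hF
  have hN : Subgroup.normalizer ((Subgroup.zpowers t : Subgroup G) : Set G) ≤ Subgroup.centralizer ({t} : Set G) := by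
    intro n hn
    obtain ⟨k, hk⟩ := Subgroup.mem_zpowers_iff.1 (((Subgroup.mem_normalizer_iff).1 hn t).1 (Subgroup.mem_zpowers t))
    rw [Subgroup.mem_centralizer_singleton_iff]
    rcases Int.even_or_odd k with ⟨m, rfl⟩ | ⟨m, rfl⟩
    · exfalso
      rw [zpow_add, ← (Commute.refl t).mul_zpow, ← pow_two, ← ht, pow_orderOf_eq_one, one_zpow, eq_comm, conj_eq_one_iff] at hk
      rw [hk, orderOf_one] at ht; norm_num at ht
    · rw [zpow_add_one, zpow_mul, zpow_two, ← pow_two, ← ht, pow_orderOf_eq_one, one_zpow, one_mul] at hk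
      exact (mul_inv_eq_iff_eq_mul.1 hk.symm)
  -- the quotient is a nontrivial 2-group
  have htop : M ⊔ Subgroup.centralizer ({t} : Set G) = ⊤ :=
    top_le_iff.1 (hF ▸ sup_le (hN.trans le_sup_right) le_sup_left)
  have hQ : IsPGroup 2 (G ⧸ M) := by
    refine ((isPGroup_centralizer e).map (QuotientGroup.mk' M)).of_equiv ?_
    refine (MulEquiv.subgroupCongr ?_).trans Subgroup.topEquiv
    have := congrArg (Subgroup.map (QuotientGroup.mk' M)) htop
    rwa [Subgroup.map_sup, QuotientGroup.map_mk'_self, bot_sup_eq,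
      Subgroup.map_top_of_surjective _ (QuotientGroup.mk'_surjective M)] at this
  obtain ⟨n, hn⟩ := hQ.exists_card_eq
  have hn1 : 1 ≤ n := by
    by_contra h
    rw [Subgroup.index_eq_card, hn] at h4'
    interval_cases n
    norm_num at h4'
  obtain ⟨H, hH⟩ := Sylow.exists_subgroup_card_pow_prime_of_le_card Nat.prime_two hQ
    (show 2 ^ (n - 1) ≤ Nat.card (G ⧸ M) from hn ▸ Nat.pow_le_pow_right (by norm_num) (by omega))
  refine hG (H.comap (QuotientGroup.mk' M)) ?_
  rw [Subgroup.index_comap_of_surjective _ (QuotientGroup.mk'_surjective M)]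
  have := H.card_mul_index
  rw [hH, hn] at this
  have h2 : 2 ^ n = 2 ^ (n - 1) * 2 := by rw [← pow_succ]; congr 1; omega
  rw [h2] at this
  exact Nat.eq_of_mul_eq_mul_left (pow_pos (by norm_num) _) this

/-- The group is simple. -/
theorem isSimpleGroup (ht : orderOf t = 2) (e : ↥(Subgroup.centralizer ({t} : Set G)) ≃* DihedralGroup 4) :
    IsSimpleGroup G := by
  have ht1 : t ≠ 1 := fun h => by rw [h, orderOf_one] at ht; norm_num at ht
  have htt : t * t = 1 := by rw [← pow_two, ← ht, pow_orderOf_eq_one]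
  haveI : Nontrivial G := ⟨⟨t, 1, ht1⟩⟩
  refine ⟨fun N hN => ?_⟩
  obtain ⟨S, hS⟩ := exists_sylow ht e
  by_cases htN : t ∈ N
  · right
    exact top_le_iff.1 (normalClosure_eq_top hG ht e ▸ Subgroup.normalClosure_le_normal (by simpa using htN))
  left
  -- `N` meets `C(t)` trivially
  have hNC : ∀ x ∈ N, x ∈ Subgroup.centralizer ({t} : Set G) → x = 1 := by
    intro x hx hxC
    by_contra hx1
    set C := Subgroup.centralizer ({t} : Set G)
    haveI : (N.subgroupOf C).Normal := Subgroup.normal_subgroupOf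
    have hne : N.subgroupOf C ≠ ⊥ := fun h => hx1 (by
      have : (⟨x, hxC⟩ : ↥C) ∈ (⊥ : Subgroup ↥C) := h ▸ hx
      exact congrArg Subtype.val (Subgroup.mem_bot.1 this))
    obtain ⟨z, hz, hz1⟩ : ∃ z : ↥C, z ∈ N.subgroupOf C ⊓ Subgroup.center ↥C ∧ z ≠ 1 := by
      haveI : Fact (Nat.Prime 2) := ⟨Nat.prime_two⟩
      have hnb := Cfsg.Agent.Lib.PGroups.normal_inf_center_ne_bot (isPGroup_centralizer e) (N.subgroupOf C) hne
      by_contra hcon
      push_neg at hcon
      exact hnb ((Subgroup.eq_bot_iff_forall _).2 hcon)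
    rcases eq_of_central ht e z.2 (fun c hc => congrArg Subtype.val (Subgroup.mem_center_iff.1 hz.2 ⟨c, hc⟩)) with h | h
    · exact hz1 (Subtype.ext h)
    · exact htN (h ▸ hz.1)
  have hodd : Odd (Nat.card ↥N) := by
    rw [← Nat.not_even_iff_odd, even_iff_two_dvd]
    intro h2
    obtain ⟨u, hu⟩ := exists_prime_orderOf_dvd_card' (G := ↥N) 2 h2
    rw [← Subgroup.orderOf_coe] at hu
    obtain ⟨Q, hQ⟩ := (IsPGroup.of_card (p := 2) (G := ↥(Subgroup.zpowers (u : G))) (n := 1)
      (by rw [Nat.card_zpowers, hu]; rfl)).exists_le_sylow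
    obtain ⟨g, hg⟩ := MulAction.exists_smul_eq G Q S
    have hmem : g * (u : G) * g⁻¹ ∈ (S : Subgroup G) := by
      rw [← hg, Sylow.coe_subgroup_smul]
      exact ⟨u, hQ (Subgroup.mem_zpowers _), rfl⟩
    have := hNC _ (hN.conj_mem _ u.2 g) (hS ▸ hmem)
    rw [conj_eq_one_iff] at this
    rw [this, orderOf_one] at hu; norm_num at hu
  have hinv := Cfsg.Agent.Lib.SylowInter.CharLocal.inverts_of_fpf hodd htt
    (fun x hx => by
      have h := hN.conj_mem x hx t
      rwa [inv_eq_of_mul_eq_one_right htt] at h)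
    (fun x hx h => hNC x hx (Subgroup.mem_centralizer_singleton_iff.2 h.symm))
  -- conjugates of `t` act on `N` as inversion
  set K := Subgroup.centralizer (N : Set G) with hK
  haveI : K.Normal := Subgroup.normal_centralizer
  have hstep : ∀ g : G, t * (g * t * g⁻¹) ∈ K := by
    intro g
    rw [Subgroup.mem_centralizer_iff]
    intro x hx
    have h1 : g * t * g⁻¹ * x * (g * t * g⁻¹) = x⁻¹ := by
      have h := hinv (g⁻¹ * x * g) (by simpa using hN.conj_mem x hx g⁻¹)
      calc g * t * g⁻¹ * x * (g * t * g⁻¹) = g * (t * (g⁻¹ * x * g) * t) * g⁻¹ := by group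
        _ = _ := by rw [h]; group
    have h2 : t * x⁻¹ * t = x := by simpa using hinv x⁻¹ (N.inv_mem hx)
    have h3 : (g * t * g⁻¹) * (g * t * g⁻¹) = 1 := by
      rw [show (g * t * g⁻¹) * (g * t * g⁻¹) = g * (t * t) * g⁻¹ by group, htt]; group
    calc x * (t * (g * t * g⁻¹)) = t * (g * t * g⁻¹ * x * (g * t * g⁻¹)) * t * (t * (g * t * g⁻¹)) := by rw [h1, h2]
      _ = t * (g * t * g⁻¹) * x * (g * t * g⁻¹) * (t * t) * (g * t * g⁻¹) := by group
      _ = t * (g * t * g⁻¹) * x * ((g * t * g⁻¹) * (g * t * g⁻¹)) := by rw [htt]; group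
      _ = _ := by rw [h3]; group
  have hKtop : K ⊔ Subgroup.zpowers t = ⊤ := by
    refine top_le_iff.1 (normalClosure_eq_top hG ht e ▸ ?_)
    rw [Subgroup.normalClosure, Subgroup.closure_le]
    intro y hy
    obtain ⟨a, ha, hay⟩ := Group.mem_conjugatesOfSet_iff.1 hy
    rw [Set.mem_singleton_iff] at ha
    subst ha
    obtain ⟨g, rfl⟩ := isConj_iff.1 hay
    have : g * a * g⁻¹ = a⁻¹ * (a * (g * a * g⁻¹)) := by group
    rw [this]
    exact Subgroup.mul_mem _ (Subgroup.mem_sup_right (Subgroup.inv_mem _ (Subgroup.mem_zpowers _)))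
      (Subgroup.mem_sup_left (hstep g))
  have hKi : K = ⊤ := by
    by_contra hne
    refine hG K (Nat.le_antisymm ?_ ?_)
    · have hq : Nat.card (G ⧸ K) ≤ 2 := by
        have hs : Subgroup.map (QuotientGroup.mk' K) (Subgroup.zpowers t) = ⊤ := by
          have := congrArg (Subgroup.map (QuotientGroup.mk' K)) hKtop
          rwa [Subgroup.map_sup, QuotientGroup.map_mk'_self, bot_sup_eq,
            Subgroup.map_top_of_surjective _ (QuotientGroup.mk'_surjective K)] at this
        have hle := Subgroup.card_map_dvd (f := QuotientGroup.mk' K) (H := Subgroup.zpowers t)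
        rw [hs, Subgroup.card_top, Nat.card_zpowers, ht] at hle
        exact Nat.le_of_dvd (by norm_num) hle
      rwa [Subgroup.index_eq_card]
    · have := Subgroup.index_ne_zero_of_finite (H := K)
      have := mt Subgroup.index_eq_one.1 hne
      omega
  rw [Subgroup.eq_bot_iff_forall]
  intro x hx
  refine hNC x hx (Subgroup.mem_centralizer_singleton_iff.2 ?_)
  exact (Subgroup.mem_centralizer_iff.1 (show t ∈ K by rw [hKi]; trivial) x hx)

end Cfsg.Agent.Lib.DihedralCentralizer
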