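/-
Elements of a centraliser dihedral of order 8.
-/
import Cfsg.Agent.Lib.DihedralCentralizer.Basic
import Cfsg.Agent.Lib.Fusion.Thompson

set_option autoImplicit false

namespace Cfsg.Agent.Lib.DihedralCentralizer

variable {G : Type*} [Group G] [Finite G] {t : G}

theorem map_self (ht : orderOf t = 2) (e : ↥(Subgroup.centralizer ({t} : Set G)) ≃* DihedralGroup 4)
    (h : t ∈ Subgroup.centralizer ({t} : Set G)) : e ⟨t, h⟩ = DihedralGroup.r 2 := by
  have key : ∀ d : DihedralGroup 4, (∀ c, c * d = d * c) → d = 1 ∨ d = DihedralGroup.r 2 := by decide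
  refine (key _ fun c => ?_).resolve_left fun h1 => ?_
  · obtain ⟨c, rfl⟩ := e.surjective c
    rw [← map_mul, ← map_mul]
    exact congrArg e (Subtype.ext (Subgroup.mem_centralizer_singleton_iff.1 c.2))
  · have : t = 1 := congrArg Subtype.val ((MulEquiv.map_eq_one_iff e).1 h1)
    rw [this, orderOf_one] at ht
    norm_num at ht

variable (e : ↥(Subgroup.centralizer ({t} : Set G)) ≃* DihedralGroup 4)

/-- The element of order four. -/
noncomputable def rot : G := (e.symm (DihedralGroup.r 1) : G)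

theorem rot_mem : rot e ∈ Subgroup.centralizer ({t} : Set G) := (e.symm _).2

theorem map_rot : e ⟨rot e, rot_mem e⟩ = DihedralGroup.r 1 := e.apply_symm_apply _

theorem rot_sq (ht : orderOf t = 2) : rot e * rot e = t := by
  have h := map_self ht e (Subgroup.mem_centralizer_singleton_iff.2 rfl)
  have h2 : e.symm (DihedralGroup.r 1) * e.symm (DihedralGroup.r 1) = ⟨t, Subgroup.mem_centralizer_singleton_iff.2 rfl⟩ := by
    rw [← map_mul, show DihedralGroup.r 1 * DihedralGroup.r 1 = (DihedralGroup.r 2 : DihedralGroup 4) from rfl, ← h, e.symm_apply_apply]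
  exact congrArg Subtype.val h2

theorem orderOf_rot : orderOf (rot e) = 4 := by
  rw [rot, Subgroup.orderOf_coe, MulEquiv.orderOf_eq, DihedralGroup.orderOf_r_one]

theorem rot_pow_four : rot e ^ 4 = 1 := orderOf_rot e ▸ pow_orderOf_eq_one _

theorem isConj_rot_inv : IsConj (rot e) (rot e)⁻¹ := by
  refine isConj_iff.2 ⟨(e.symm (DihedralGroup.sr 0) : G), ?_⟩
  have h : e.symm (DihedralGroup.sr 0) * e.symm (DihedralGroup.r 1) * (e.symm (DihedralGroup.sr 0))⁻¹ =
      (e.symm (DihedralGroup.r 1))⁻¹ := by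
    simp only [← map_inv, ← map_mul]
    exact congrArg e.symm (by decide)
  exact congrArg Subtype.val h

theorem card_centralizer_rot (ht : orderOf t = 2) :
    Nat.card ↥(Subgroup.centralizer ({rot e} : Set G)) = 4 := by
  have h4 : Nat.card {d : DihedralGroup 4 // d * DihedralGroup.r 1 = DihedralGroup.r 1 * d} = 4 := by
    rw [Nat.card_eq_fintype_card]; decide
  rw [← h4]
  refine Nat.card_congr
    { toFun := fun x => ⟨e ⟨x.1, ?_⟩, ?_⟩
      invFun := fun d => ⟨(e.symm d.1 : G), ?_⟩
      left_inv := fun x => Subtype.ext (by simp)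
      right_inv := fun d => Subtype.ext (by simp) }
  · have hx := Subgroup.mem_centralizer_singleton_iff.1 x.2
    rw [Subgroup.mem_centralizer_singleton_iff]
    have h : (x : G) * (rot e * rot e) = rot e * rot e * x := by rw [← mul_assoc, hx, mul_assoc, hx, mul_assoc]
    rwa [rot_sq e ht] at h
  · conv_lhs => arg 2; rw [← map_rot e]
    conv_rhs => arg 1; rw [← map_rot e]
    rw [← map_mul, ← map_mul]
    exact congrArg e (Subtype.ext (Subgroup.mem_centralizer_singleton_iff.1 x.2))
  · rw [Subgroup.mem_centralizer_singleton_iff]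
    have h : e.symm d.1 * e.symm (DihedralGroup.r 1) = e.symm (DihedralGroup.r 1) * e.symm d.1 := by
      rw [← map_mul, ← map_mul, d.2]
    exact congrArg Subtype.val h

theorem card_pairs_aux {g : G} (hg : g ∈ Subgroup.centralizer ({t} : Set G)) (d : DihedralGroup 4)
    (hd : e ⟨g, hg⟩ = d)
    (hin : ∀ x : G, x * x = 1 → x * g * (x * g) = 1 → x ∈ Subgroup.centralizer ({t} : Set G))
    (h4 : Fintype.card {c : DihedralGroup 4 // c ≠ 1 ∧ c * c = 1 ∧ c * d ≠ 1 ∧ c * d * (c * d) = 1} = 4) :
    Nat.card {x : G // x ≠ 1 ∧ x * x = 1 ∧ x * g ≠ 1 ∧ x * g * (x * g) = 1} = 4 := by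
  rw [← h4, ← Nat.card_eq_fintype_card]
  have key : ∀ c : ↥(Subgroup.centralizer ({t} : Set G)), ((c : G) ≠ 1 ∧ (c : G) * c = 1 ∧ (c : G) * g ≠ 1 ∧ (c : G) * g * ((c : G) * g) = 1) ↔
      (e c ≠ 1 ∧ e c * e c = 1 ∧ e c * d ≠ 1 ∧ e c * d * (e c * d) = 1) := by
    intro c
    subst hd
    simp only [ne_eq, ← map_mul, MulEquiv.map_eq_one_iff, Subtype.ext_iff, Subgroup.coe_mul, Subgroup.coe_one]
  refine Nat.card_congr
    { toFun := fun x => ⟨e ⟨x.1, hin x.1 x.2.2.1 x.2.2.2.2⟩, (key _).1 x.2⟩
      invFun := fun c => ⟨(e.symm c.1 : G), (key (e.symm c.1)).2 (by simpa using c.2)⟩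
      left_inv := fun x => Subtype.ext (by simp)
      right_inv := fun c => Subtype.ext (by simp) }

/-- There are four pairs of involutions with product the element of order four. -/
theorem card_pairs_rot (ht : orderOf t = 2) :
    Nat.card {x : G // x ≠ 1 ∧ x * x = 1 ∧ x * rot e ≠ 1 ∧ x * rot e * (x * rot e) = 1} = 4 := by
  refine card_pairs_aux e (rot_mem e) _ (map_rot e) ?_ (by decide)
  intro x hx h
  rw [Subgroup.mem_centralizer_singleton_iff]
  have h1 : x * rot e * x = (rot e)⁻¹ := eq_inv_of_mul_eq_one_left (by rw [← h]; group)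
  have h2 : t * t = 1 := by rw [← pow_two, ← ht, pow_orderOf_eq_one]
  have h3 : x * t * x = t := by
    calc x * t * x = (x * rot e * x) * (x * rot e * x) := by
          have h4 : x * (rot e * rot e) * x = (x * rot e * x) * (x * rot e * x) := by
            calc x * (rot e * rot e) * x = x * rot e * (x * x) * rot e * x := by rw [hx]; group
              _ = _ := by group
          rwa [rot_sq e ht] at h4
      _ = (rot e * rot e)⁻¹ := by rw [h1]; group
      _ = t := by rw [rot_sq e ht]; exact inv_eq_of_mul_eq_one_right h2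
  calc x * t = x * t * (x * x) := by rw [hx, mul_one]
    _ = (x * t * x) * x := by group
    _ = _ := by rw [h3]

include e in
/-- There are four pairs of involutions with product the central involution. -/
theorem card_pairs_self (ht : orderOf t = 2) :
    Nat.card {x : G // x ≠ 1 ∧ x * x = 1 ∧ x * t ≠ 1 ∧ x * t * (x * t) = 1} = 4 := by
  refine card_pairs_aux e (Subgroup.mem_centralizer_singleton_iff.2 rfl) _ (map_self ht e _) ?_ (by decide)
  intro x hx h
  rw [Subgroup.mem_centralizer_singleton_iff]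
  have h2 : t * t = 1 := by rw [← pow_two, ← ht, pow_orderOf_eq_one]
  calc x * t = (x * t)⁻¹ := (inv_eq_of_mul_eq_one_right h).symm
    _ = t⁻¹ * x⁻¹ := mul_inv_rev x t
    _ = _ := by rw [inv_eq_of_mul_eq_one_right h2, inv_eq_of_mul_eq_one_right hx]

/-- All involutions are conjugate when there is no subgroup of index two. -/
theorem isConj_involution (hG : ∀ H : Subgroup G, H.index ≠ 2) (ht : orderOf t = 2)
    {u : G} (hu : orderOf u = 2) (e : ↥(Subgroup.centralizer ({t} : Set G)) ≃* DihedralGroup 4) : IsConj t u := by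
  obtain ⟨S, hS⟩ := exists_sylow ht e
  have hle : Subgroup.zpowers (rot e) ≤ (S : Subgroup G) := by
    rw [Subgroup.zpowers_le, hS]; exact rot_mem e
  have hcard : Nat.card ↥(S : Subgroup G) = 8 := by rw [hS, card_centralizer e]
  have hrel : (Subgroup.zpowers (rot e)).relIndex (S : Subgroup G) = 2 := by
    have h := Subgroup.card_mul_index ((Subgroup.zpowers (rot e)).subgroupOf (S : Subgroup G))
    rw [Nat.card_congr (Subgroup.subgroupOfEquivOfLe hle).toEquiv, Nat.card_zpowers, orderOf_rot e, hcard] at h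
    rw [Subgroup.relIndex]; omega
  obtain ⟨g, hg⟩ := Cfsg.Agent.Lib.Fusion.Thompson.exists_conj_mem_maximal S _ hle hrel hG u hu
  obtain ⟨k, hk⟩ := Subgroup.mem_zpowers_iff.1 hg
  refine isConj_iff.2 ⟨g⁻¹, ?_⟩
  suffices h : g * u * g⁻¹ = t by rw [← h]; group
  rw [← hk]
  have ho : orderOf (rot e ^ k) = 2 := by
    rw [hk, ← MulAut.conj_apply, MulEquiv.orderOf_eq, hu]
  rw [← zpow_mod_orderOf, orderOf_rot e] at ho ⊢
  have h0 : 0 ≤ k % ((4 : ℕ) : ℤ) := Int.emod_nonneg k (by norm_num)
  have h4 : k % ((4 : ℕ) : ℤ) < 4 := Int.emod_lt_of_pos k (by norm_num)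
  generalize k % ((4 : ℕ) : ℤ) = j at ho h0 h4 ⊢
  interval_cases j
  · simp at ho
  · rw [zpow_one, orderOf_rot e] at ho; norm_num at ho
  · rw [zpow_two, rot_sq e ht]
  · rw [show rot e ^ (3 : ℤ) = (rot e)⁻¹ by
      rw [eq_inv_iff_mul_eq_one, ← zpow_add_one]
      exact_mod_cast rot_pow_four e, orderOf_inv, orderOf_rot e] at ho
    norm_num at ho

end Cfsg.Agent.Lib.DihedralCentralizer
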