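/-
The order of a perfect group with an involution centraliser dihedral of order 8.
-/
import Cfsg.Agent.Lib.DihedralCentralizer.Structure
import Cfsg.Agent.Lib.DihedralCentralizer.Arith
import Cfsg.Agent.Lib.H80.ClassMult
import Cfsg.Agent.Lib.H80.LinearChar
import Cfsg.Agent.Lib.Characters.Diag

set_option autoImplicit false

namespace Cfsg.Agent.Lib.DihedralCentralizer

open Cfsg.Agent.Lib.Characters.Basic Cfsg.Agent.Lib.Characters.Complete
open scoped ComplexConjugate

universe u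

variable {G : Type u} [Group G] [Finite G] {t : G}

/-- Values of a character on the cyclic subgroup of order four. -/
theorem exists_values (χ : Cfsg.IrrCharacter G) {a : G} (h4 : a ^ 4 = 1) (hreal : IsConj a a⁻¹) :
    ∃ A B C : ℕ, (χ : G → ℂ) 1 = A + B + 2 * C ∧ (χ : G → ℂ) a = (A : ℂ) - B ∧
      (χ : G → ℂ) (a * a) = (A : ℂ) + B - 2 * C := by
  classical
  obtain ⟨n, ρ, hρ, hχ⟩ := exists_rep χ
  obtain ⟨ι, hι, b, ζ, hζ, hcard, htr⟩ :=
    Cfsg.Agent.Lib.Characters.Diag.exists_eigenbasis ρ a (by norm_num) h4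
  have hval : ∀ i, ζ i = 1 ∨ ζ i = -1 ∨ ζ i = Complex.I ∨ ζ i = -Complex.I := by
    intro i
    have h : (ζ i ^ 2) ^ 2 = 1 := by rw [← pow_mul]; exact (hζ i).2
    rcases sq_eq_one_iff.1 h with h | h
    · rcases sq_eq_one_iff.1 h with h | h
      · exact Or.inl h
      · exact Or.inr (Or.inl h)
    · rw [← Complex.I_sq] at h
      rcases sq_eq_sq_iff_eq_or_eq_neg.1 h with h | h
      · exact Or.inr (Or.inr (Or.inl h))
      · exact Or.inr (Or.inr (Or.inr h))
  have htr2 : ρ.character (a * a) = ∑ i, ζ i ^ 2 := by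
    refine Cfsg.Agent.Lib.Characters.Diag.trace_eq_sum_eigenvalues b (ρ (a * a)) _ fun i => ?_
    rw [map_mul, Module.End.mul_apply, (hζ i).1, map_smul, (hζ i).1, smul_smul, pow_two]
  let N : ℂ → ℕ := fun z => (Finset.univ.filter fun i => ζ i = z).card
  have hI1 : (Complex.I : ℂ) ≠ 1 := fun h => by simpa using congrArg Complex.re h
  have hI2 : (Complex.I : ℂ) ≠ -1 := fun h => by simpa using congrArg Complex.re h
  have hI3 : -(Complex.I : ℂ) ≠ 1 := fun h => by simpa using congrArg Complex.re h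
  have hI4 : -(Complex.I : ℂ) ≠ -1 := fun h => by simpa using congrArg Complex.re h
  have hI5 : -(Complex.I : ℂ) ≠ Complex.I := fun h => by
    have := congrArg Complex.im h; simp at this; norm_num at this
  have h11 : (-1 : ℂ) ≠ 1 := by norm_num
  have hsum : ∀ f : ℂ → ℂ, ∑ i, f (ζ i) =
      (N 1 : ℂ) * f 1 + (N (-1) : ℂ) * f (-1) + (N Complex.I : ℂ) * f Complex.I +
        (N (-Complex.I) : ℂ) * f (-Complex.I) := by
    intro f
    rw [← Finset.sum_fiberwise_of_maps_to (g := ζ) (t := ({1, -1, Complex.I, -Complex.I} : Finset ℂ))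
      (fun i _ => by rcases hval i with h | h | h | h <;> simp [h]) (fun i => f (ζ i))]
    have hfib : ∀ z : ℂ, (∑ i ∈ Finset.univ.filter (fun i => ζ i = z), f (ζ i)) = (N z : ℂ) * f z := by
      intro z
      rw [Finset.sum_congr rfl fun i hi => by rw [(Finset.mem_filter.1 hi).2], Finset.sum_const, nsmul_eq_mul]
    simp only [hfib]
    rw [Finset.sum_insert (by simp [h11.symm, hI1.symm, hI3.symm]), Finset.sum_insert (by simp [hI2.symm, hI4.symm]),
      Finset.sum_insert (by simp [hI5.symm]), Finset.sum_singleton]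
    ring
  have ha : ρ.character a = (N 1 : ℂ) - N (-1) + ((N Complex.I : ℂ) - N (-Complex.I)) * Complex.I := by
    rw [htr, hsum fun z => z]; ring
  have hreal' : conj (ρ.character a) = ρ.character a := by
    rw [hχ, ← apply_inv (isCharacter_irr χ),
      classFunction_apply_of_isConj (isClassFunction_irr χ) hreal]
  have hCD : N Complex.I = N (-Complex.I) := by
    have := congrArg Complex.im (show ρ.character a = conj (ρ.character a) from hreal'.symm)
    rw [Complex.conj_im, ha] at this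
    simp at this
    exact_mod_cast (by linarith : (N Complex.I : ℝ) = N (-Complex.I))
  refine ⟨N 1, N (-1), N Complex.I, ?_, ?_, ?_⟩
  · rw [← hχ, Representation.char_one, ← hcard]
    have := hsum fun _ => 1
    simp only [Finset.sum_const, Finset.card_univ, nsmul_eq_mul, mul_one] at this
    rw [this, ← hCD]; ring
  · rw [← hχ, ha, ← hCD]; ring
  · rw [← hχ, htr2, hsum fun z => z ^ 2, ← hCD, neg_sq, neg_sq, Complex.I_sq]; ring

variable (e : ↥(Subgroup.centralizer ({t} : Set G)) ≃* DihedralGroup 4)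

include e in
/-- The class multiplication equation. -/
theorem class_equation [Fintype (Cfsg.IrrCharacter G)] (ht : orderOf t = 2)
    (hone : ∀ u : G, orderOf u = 2 → IsConj t u) (g : G)
    (h4 : Nat.card {x : G // x ≠ 1 ∧ x * x = 1 ∧ x * g ≠ 1 ∧ x * g * (x * g) = 1} = 4) :
    (Nat.card G : ℂ) * ∑ χ : Cfsg.IrrCharacter G,
      (χ : G → ℂ) g⁻¹ * (χ : G → ℂ) t ^ 2 / (χ : G → ℂ) 1 = 256 := by
  classical
  letI := Fintype.ofFinite G
  have hG : (Nat.card G : ℂ) ≠ 0 := Nat.cast_ne_zero.2 Nat.card_pos.ne'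
  have h8 := card_centralizer e
  have htt : t * t = 1 := by rw [← pow_two, ← ht, pow_orderOf_eq_one]
  have ht1 : t ≠ 1 := fun h => by rw [h, orderOf_one] at ht; norm_num at ht
  have hinv : ∀ a : G, (a * t * a⁻¹) * (a * t * a⁻¹) = 1 := fun a => by
    calc (a * t * a⁻¹) * (a * t * a⁻¹) = a * (t * t) * a⁻¹ := by group
      _ = 1 := by rw [htt]; group
  have hne : ∀ a : G, a * t * a⁻¹ ≠ 1 := fun a h => ht1 (conj_eq_one_iff.1 h)
  -- the number of pairs
  have hfib : ∀ x : G, x ≠ 1 → x * x = 1 → (Finset.univ.filter fun a : G => a * t * a⁻¹ = x).card = 8 := by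
    intro x hx1 hxx
    obtain ⟨c, hc⟩ := isConj_iff.1 (hone x (orderOf_eq_prime (p := 2) (by rw [pow_two, hxx]) hx1))
    rw [← h8, ← Fintype.card_subtype, ← Nat.card_eq_fintype_card]
    refine Nat.card_congr
      { toFun := fun a => ⟨c⁻¹ * a.1, ?_⟩
        invFun := fun k => ⟨c * k.1, ?_⟩
        left_inv := fun a => Subtype.ext (mul_inv_cancel_left _ _)
        right_inv := fun k => Subtype.ext (inv_mul_cancel_left _ _) }
    · rw [Subgroup.mem_centralizer_singleton_iff]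
      calc c⁻¹ * a.1 * t = c⁻¹ * (a.1 * t * a.1⁻¹) * a.1 := by group
        _ = c⁻¹ * (c * t * c⁻¹) * a.1 := by rw [a.2, hc]
        _ = _ := by group
    · have hk := Subgroup.mem_centralizer_singleton_iff.1 k.2
      calc c * k.1 * t * (c * k.1)⁻¹ = c * (k.1 * t) * k.1⁻¹ * c⁻¹ := by group
        _ = c * (t * k.1) * k.1⁻¹ * c⁻¹ := by rw [hk]
        _ = c * t * c⁻¹ := by group
        _ = x := hc
  set X : Finset G := Finset.univ.filter fun x => x ≠ 1 ∧ x * x = 1 ∧ x * g ≠ 1 ∧ x * g * (x * g) = 1 with hX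
  have hXc : X.card = 4 := by rw [hX, ← Fintype.card_subtype, ← Nat.card_eq_fintype_card, h4]
  have hcount : ∑ a : G, ∑ b : G, (if g⁻¹ * (a * t * a⁻¹) * (b * t * b⁻¹) = 1 then (1 : ℂ) else 0) = 256 := by
    have h1 : ∀ a : G, ∑ b : G, (if g⁻¹ * (a * t * a⁻¹) * (b * t * b⁻¹) = 1 then (1 : ℂ) else 0) =
        if a * t * a⁻¹ ∈ X then 8 else 0 := by
      intro a
      have hiff : ∀ b : G, g⁻¹ * (a * t * a⁻¹) * (b * t * b⁻¹) = 1 ↔ b * t * b⁻¹ = a * t * a⁻¹ * g := by
        intro b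
        constructor
        · intro h
          calc b * t * b⁻¹ = (a * t * a⁻¹)⁻¹ * g * (g⁻¹ * (a * t * a⁻¹) * (b * t * b⁻¹)) := by group
            _ = _ := by rw [h, mul_one, inv_eq_of_mul_eq_one_right (hinv a)]
        · intro h
          rw [h]
          calc g⁻¹ * (a * t * a⁻¹) * (a * t * a⁻¹ * g) = g⁻¹ * ((a * t * a⁻¹) * (a * t * a⁻¹)) * g := by group
            _ = 1 := by rw [hinv]; group
      simp only [hiff]
      rw [Finset.sum_boole]
      by_cases hm : a * t * a⁻¹ ∈ X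
      · rw [if_pos hm]
        have hm' := (Finset.mem_filter.1 hm).2
        rw [hfib _ hm'.2.2.1 hm'.2.2.2]
        norm_num
      · rw [if_neg hm, Nat.cast_eq_zero, Finset.card_eq_zero, Finset.filter_eq_empty_iff]
        intro b _ hb
        refine hm (Finset.mem_filter.2 ⟨Finset.mem_univ _, hne a, hinv a, hb ▸ hne b, hb ▸ hinv b⟩)
    simp only [h1]
    rw [← Finset.sum_filter, Finset.sum_const, nsmul_eq_mul]
    have h2 : (Finset.univ.filter fun a : G => a * t * a⁻¹ ∈ X).card = 32 := by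
      rw [Finset.card_eq_sum_card_fiberwise (s := Finset.univ.filter fun a : G => a * t * a⁻¹ ∈ X) (f := fun a : G => a * t * a⁻¹) (t := X)
        (fun a ha => (Finset.mem_filter.1 ha).2)]
      rw [Finset.sum_congr rfl fun x hx => ?_, Finset.sum_const, hXc]
      · show 4 • 8 = 32
        norm_num
      · have hx' := (Finset.mem_filter.1 hx).2
        rw [← hfib x hx'.1 hx'.2.1]
        congr 1
        ext a
        simp only [Finset.mem_filter, Finset.mem_univ, true_and]
        exact ⟨fun h => h.2, fun h => ⟨h ▸ hx, h⟩⟩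
    rw [h2]; norm_num
  have key : ∀ χ : Cfsg.IrrCharacter G,
      ∑ a : G, ∑ b : G, (χ : G → ℂ) (g⁻¹ * (a * t * a⁻¹) * (b * t * b⁻¹)) =
        (Nat.card G : ℂ) ^ 2 * (χ : G → ℂ) g⁻¹ * (χ : G → ℂ) t ^ 2 / (χ : G → ℂ) 1 ^ 2 := by
    intro χ
    have h1 := apply_one_ne_zero χ
    simp only [Cfsg.Agent.Lib.H80.ClassMult.sum_apply_mul_conj, ← Finset.sum_div, ← Finset.sum_mul,
      ← Finset.mul_sum]
    field_simp
  apply mul_left_cancel₀ hG
  rw [← hcount]
  have hsd : ∀ h : G, (Nat.card G : ℂ) * (if h = 1 then (1 : ℂ) else 0) =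
      ∑ χ : Cfsg.IrrCharacter G, (χ : G → ℂ) 1 * (χ : G → ℂ) h := fun h => by
    rw [sum_degree_mul_apply]; split_ifs <;> simp
  rw [Finset.mul_sum]
  simp only [Finset.mul_sum, hsd]
  conv_rhs => enter [2, a]; rw [Finset.sum_comm]
  rw [Finset.sum_comm]
  refine Finset.sum_congr rfl fun χ _ => ?_
  simp only [← Finset.mul_sum, key]
  have h1 := apply_one_ne_zero χ
  field_simp


/-- Restriction of a sum to a finite set of characters. -/
theorem sum_five {ι R : Type*} [Fintype ι] [DecidableEq ι] [AddCommMonoid R] (o p q r s : ι)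
    (hop : o ≠ p) (hoq : o ≠ q) (hor : o ≠ r) (hos : o ≠ s) (hpq : p ≠ q) (hpr : p ≠ r) (hps : p ≠ s)
    (hqr : q ≠ r) (hqs : q ≠ s) (hrs : r ≠ s) (f : ι → R)
    (h : ∀ i, i ≠ o → i ≠ p → i ≠ q → i ≠ r → i ≠ s → f i = 0) :
    ∑ i, f i = f o + f p + f q + f r + f s := by
  rw [← Finset.sum_subset (Finset.subset_univ ({o, p, q, r, s} : Finset ι)) fun i _ hi => by
    simp only [Finset.mem_insert, Finset.mem_singleton, not_or] at hi
    exact h i hi.1 hi.2.1 hi.2.2.1 hi.2.2.2.1 hi.2.2.2.2]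
  rw [Finset.sum_insert (by simp [hop, hoq, hor, hos]), Finset.sum_insert (by simp [hpq, hpr, hps]),
    Finset.sum_insert (by simp [hqr, hqs]), Finset.sum_insert (by simp [hrs]), Finset.sum_singleton]
  abel

/-- The supports of the two exceptional integer vectors. -/
theorem support_cases {ι : Type*} [Fintype ι] [DecidableEq ι] (u v : ι → ℤ) (o : ι) (hu1 : u o = 1) (hv1 : v o = 1)
    (hu : ∑ i, u i * u i = 4) (hv : ∑ i, v i * v i = 3) (huv : ∑ i, u i * v i = 2) :
    ∃ p q r s : ι, o ≠ p ∧ o ≠ q ∧ o ≠ r ∧ o ≠ s ∧ p ≠ q ∧ p ≠ r ∧ p ≠ s ∧ q ≠ r ∧ q ≠ s ∧ r ≠ s ∧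
      (u p = 1 ∨ u p = -1) ∧ v p = u p ∧ u q = 0 ∧ (v q = 1 ∨ v q = -1) ∧ v r = 0 ∧ v s = 0 ∧
      (u r = 1 ∨ u r = -1) ∧ (u s = 1 ∨ u s = -1) ∧
      ∀ i, i ≠ o → i ≠ p → i ≠ q → i ≠ r → i ≠ s → u i = 0 ∧ v i = 0 := by
  have sat : ∀ (w : ι → ℤ) (n : ℕ), n ≤ 3 → w o = 1 → ∑ i, w i * w i = (n : ℤ) + 1 →
      ((Finset.univ.erase o).filter fun i => w i ≠ 0).card = n ∧ ∀ i, i ≠ o → w i = 0 ∨ w i = 1 ∨ w i = -1 := by
    intro w n hn hw1 hw
    rw [← Finset.add_sum_erase _ _ (Finset.mem_univ o), hw1] at hw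
    have hbound : ∀ i, i ≠ o → w i = 0 ∨ w i = 1 ∨ w i = -1 := by
      intro i hi
      have := Finset.single_le_sum (f := fun i => w i * w i) (fun i _ => mul_self_nonneg (w i))
        (Finset.mem_erase.2 ⟨hi, Finset.mem_univ i⟩)
      have h3 : w i * w i < 4 := by
        have : (n : ℤ) ≤ 3 := by exact_mod_cast hn
        linarith
      have : -1 ≤ w i ∧ w i ≤ 1 := ⟨by nlinarith, by nlinarith⟩
      omega
    refine ⟨?_, hbound⟩
    have : ∑ i ∈ Finset.univ.erase o, w i * w i = ((Finset.univ.erase o).filter fun i => w i ≠ 0).card := by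
      rw [← Finset.sum_filter_of_ne (p := fun i => w i ≠ 0) fun i _ h h0 => h (by rw [h0, mul_zero])]
      rw [Finset.card_eq_sum_ones, Nat.cast_sum]
      refine Finset.sum_congr rfl fun i hi => ?_
      obtain ⟨hi1, hi2⟩ := Finset.mem_filter.1 hi
      rcases hbound i (Finset.ne_of_mem_erase hi1) with h | h | h
      · exact absurd h hi2
      · simp [h]
      · simp [h]
    omega
  obtain ⟨hUc, hUb⟩ := sat u 3 le_rfl hu1 (by rw [hu]; rfl)
  obtain ⟨hVc, hVb⟩ := sat v 2 (by norm_num) hv1 (by rw [hv]; rfl)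
  set U := (Finset.univ.erase o).filter fun i => u i ≠ 0 with hU
  set V := (Finset.univ.erase o).filter fun i => v i ≠ 0 with hV
  have memU : ∀ i, i ∈ U ↔ i ≠ o ∧ u i ≠ 0 := fun i => by simp [hU]
  have memV : ∀ i, i ∈ V ↔ i ≠ o ∧ v i ≠ 0 := fun i => by simp [hV]
  have hrest : ∑ i ∈ V, u i * v i = 1 := by
    rw [hV, Finset.sum_filter_of_ne (p := fun i => v i ≠ 0) fun i _ h h0 => h (by rw [h0, mul_zero])]
    rw [← Finset.add_sum_erase _ _ (Finset.mem_univ o), hu1, hv1] at huv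
    linarith
  obtain ⟨x, y, hxy, hVe⟩ := Finset.card_eq_two.1 hVc
  rw [hVe, Finset.sum_pair hxy] at hrest
  have hx := (memV x).1 (hVe ▸ by simp)
  have hy := (memV y).1 (hVe ▸ by simp)
  obtain ⟨p, q, hpq, hVe', hp, hq, hvp, hup, huq⟩ : ∃ p q, p ≠ q ∧ V = {p, q} ∧ p ≠ o ∧ q ≠ o ∧
      v p = u p ∧ (u p = 1 ∨ u p = -1) ∧ u q = 0 := by
    rcases hUb x hx.1 with a | a | a <;> rcases hUb y hy.1 with b | b | b <;>
      rcases hVb x hx.1 with c | c | c <;> rcases hVb y hy.1 with d | d | d <;>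
      simp only [a, b, c, d] at hrest hx hy <;>
      first
      | (exfalso; omega)
      | exact ⟨x, y, hxy, hVe, hx.1, hy.1, c.trans a.symm, Or.inl a, b⟩
      | exact ⟨x, y, hxy, hVe, hx.1, hy.1, c.trans a.symm, Or.inr a, b⟩
      | exact ⟨y, x, hxy.symm, by rw [hVe, Finset.pair_comm], hy.1, hx.1, d.trans b.symm, Or.inl b, a⟩
      | exact ⟨y, x, hxy.symm, by rw [hVe, Finset.pair_comm], hy.1, hx.1, d.trans b.symm, Or.inr b, a⟩
  have hpU : p ∈ U := (memU p).2 ⟨hp, by omega⟩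
  obtain ⟨r, s, hrs, hUe⟩ := Finset.card_eq_two.1 (show (U.erase p).card = 2 by
    rw [Finset.card_erase_of_mem hpU, hUc])
  have hr' : r ∈ U.erase p := hUe ▸ by simp
  have hs' : s ∈ U.erase p := hUe ▸ by simp
  obtain ⟨hrp, hrU⟩ := Finset.mem_erase.1 hr'
  obtain ⟨hsp, hsU⟩ := Finset.mem_erase.1 hs'
  have hr := (memU r).1 hrU
  have hs := (memU s).1 hsU
  have hrq : r ≠ q := fun h => hr.2 (h ▸ huq)
  have hsq : s ≠ q := fun h => hs.2 (h ▸ huq)
  have hvz : ∀ i, i ≠ o → i ≠ p → i ≠ q → v i = 0 := fun i hio hip hiq => by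
    by_contra h
    have := (memV i).2 ⟨hio, h⟩
    rw [hVe'] at this
    simp [hip, hiq] at this
  refine ⟨p, q, r, s, hp.symm, hq.symm, hr.1.symm, hs.1.symm, hpq, hrp.symm, hsp.symm, hrq.symm, hsq.symm, hrs,
    hup, hvp, huq, (hVb q hq).resolve_left ((memV q).1 (hVe' ▸ by simp)).2, hvz r hr.1 hrp hrq,
    hvz s hs.1 hsp hsq, (hUb r hr.1).resolve_left hr.2, (hUb s hs.1).resolve_left hs.2,
    fun i hio hip hiq hir his => ⟨?_, hvz i hio hip hiq⟩⟩
  by_contra h
  have := Finset.mem_erase.2 ⟨hip, (memU i).2 ⟨hio, h⟩⟩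
  rw [hUe] at this
  simp [hir, his] at this

include e in
/-- The order is 168 or 360. -/
theorem card_eq (ht : orderOf t = 2) (hG : ∀ H : Subgroup G, H.index ≠ 2)
    (hlin : ∀ χ : Cfsg.IrrCharacter G, (χ : G → ℂ) 1 = 1 → χ = oneChar G) :
    Nat.card G = 168 ∨ Nat.card G = 360 := by
  classical
  letI := Fintype.ofFinite (Cfsg.IrrCharacter G)
  set a := rot e with ha
  have hsq : a * a = t := rot_sq e ht
  have htt : t⁻¹ = t := inv_eq_of_mul_eq_one_right (by rw [← pow_two, ← ht, pow_orderOf_eq_one])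
  have hone : ∀ x : G, orderOf x = 2 → IsConj t x := fun x hx => isConj_involution hG ht hx e
  choose A B C hd hva hvt using fun χ : Cfsg.IrrCharacter G =>
    exists_values χ (rot_pow_four e) (isConj_rot_inv e)
  set d : Cfsg.IrrCharacter G → ℤ := fun χ => A χ + B χ + 2 * C χ with hdd
  set u : Cfsg.IrrCharacter G → ℤ := fun χ => A χ - B χ with huu
  set v : Cfsg.IrrCharacter G → ℤ := fun χ => A χ - C χ with hvv
  have e1 : ∀ χ : Cfsg.IrrCharacter G, (χ : G → ℂ) 1 = (d χ : ℂ) := fun χ => by rw [hd, hdd]; push_cast; ring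
  have ea : ∀ χ : Cfsg.IrrCharacter G, (χ : G → ℂ) a = (u χ : ℂ) := fun χ => by rw [ha, hva, huu]; push_cast; ring
  have et : ∀ χ : Cfsg.IrrCharacter G, (χ : G → ℂ) t = ((2 * v χ - u χ : ℤ) : ℂ) := fun χ => by
    rw [← hsq, ha, hvt, huu, hvv]; push_cast; ring
  have eai : ∀ χ : Cfsg.IrrCharacter G, (χ : G → ℂ) a⁻¹ = (u χ : ℂ) := fun χ => by
    rw [← classFunction_apply_of_isConj (isClassFunction_irr χ) (isConj_rot_inv e), ea]
  have hcong : ∀ χ, (4 : ℤ) ∣ d χ - (2 * v χ - u χ) := fun χ => ⟨C χ, by simp only [hdd, huu, hvv]; ring⟩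
  have hpos : ∀ χ, 0 < d χ := fun χ => by
    obtain ⟨n, hn, h⟩ := exists_degree_pos χ
    rw [e1] at h
    have : d χ = (n : ℤ) := by exact_mod_cast h
    omega
  have horda : orderOf a = 4 := orderOf_rot e
  have hna : ¬ IsConj a t := fun h => by
    obtain ⟨c, hc⟩ := isConj_iff.1 h
    rw [← hc, ← MulAut.conj_apply, MulEquiv.orderOf_eq, horda] at ht
    norm_num at ht
  have hn1 : ∀ x : G, orderOf x ≠ 1 → ¬ IsConj (1 : G) x := fun x hx h => hx (by
    obtain ⟨c, hc⟩ := isConj_iff.1 h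
    rw [mul_one, mul_inv_cancel] at hc
    rw [← hc, orderOf_one])
  -- column orthogonality
  have col : ∀ x y : G, ∀ f g : Cfsg.IrrCharacter G → ℤ, (∀ χ : Cfsg.IrrCharacter G, (χ : G → ℂ) x = f χ) →
      (∀ χ : Cfsg.IrrCharacter G, (χ : G → ℂ) y = g χ) →
      ((∑ χ, f χ * g χ : ℤ) : ℂ) = if IsConj x y then (Nat.card (Subgroup.centralizer ({x} : Set G)) : ℂ) else 0 := by
    intro x y f g hf hg
    rw [← sum_irr_mul_conj, Int.cast_sum]
    refine Finset.sum_congr rfl fun χ _ => ?_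
    rw [hf, hg, map_intCast]
    push_cast; ring
  have cu : ∑ χ, u χ * u χ = 4 := by
    have := col a a u u ea ea
    rw [if_pos (IsConj.refl a), card_centralizer_rot e ht] at this
    exact_mod_cast this
  have cw : ∑ χ, (2 * v χ - u χ) * (2 * v χ - u χ) = 8 := by
    have := col t t _ _ et et
    rw [if_pos (IsConj.refl t), card_centralizer e] at this
    exact_mod_cast this
  have cuw : ∑ χ, u χ * (2 * v χ - u χ) = 0 := by
    have := col a t u _ ea et
    rw [if_neg hna] at this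
    exact_mod_cast this
  have cdu : ∑ χ, d χ * u χ = 0 := by
    have := col 1 a d u e1 ea
    rw [if_neg (hn1 a (by rw [horda]; norm_num))] at this
    exact_mod_cast this
  have cdw : ∑ χ, d χ * (2 * v χ - u χ) = 0 := by
    have := col 1 t d _ e1 et
    rw [if_neg (hn1 t (by rw [ht]; norm_num))] at this
    exact_mod_cast this
  have cuv : ∑ χ, u χ * v χ = 2 := by
    have : ∑ χ, u χ * (2 * v χ - u χ) = 2 * (∑ χ, u χ * v χ) - ∑ χ, u χ * u χ := by
      rw [Finset.mul_sum, ← Finset.sum_sub_distrib]; exact Finset.sum_congr rfl fun χ _ => by ring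
    omega
  have cv : ∑ χ, v χ * v χ = 3 := by
    have : ∑ χ, (2 * v χ - u χ) * (2 * v χ - u χ) =
        4 * (∑ χ, v χ * v χ) - 4 * (∑ χ, u χ * v χ) + ∑ χ, u χ * u χ := by
      rw [Finset.mul_sum, Finset.mul_sum, ← Finset.sum_sub_distrib, ← Finset.sum_add_distrib]
      exact Finset.sum_congr rfl fun χ _ => by ring
    omega
  have cdv : ∑ χ, d χ * v χ = 0 := by
    have : ∑ χ, d χ * (2 * v χ - u χ) = 2 * (∑ χ, d χ * v χ) - ∑ χ, d χ * u χ := by
      rw [Finset.mul_sum, ← Finset.sum_sub_distrib]; exact Finset.sum_congr rfl fun χ _ => by ring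
    omega
  have h01 : u (oneChar G) = 1 := by
    have h := ea (oneChar G)
    rw [oneChar_apply] at h
    exact_mod_cast h.symm
  have h02 : v (oneChar G) = 1 := by
    have h := et (oneChar G)
    rw [oneChar_apply, h01] at h
    have h' : (1 : ℤ) = 2 * v (oneChar G) - 1 := by exact_mod_cast h
    omega
  have h0d : d (oneChar G) = 1 := by
    have h := e1 (oneChar G)
    rw [oneChar_apply] at h
    exact_mod_cast h.symm
  obtain ⟨p, q, r, s, hop, hoq, hor, hos, hpq, hpr, hps, hqr, hqs, hrs, hup, hvp, huq, hvq, hvr, hvs, hur, hus, hout⟩ :=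
    support_cases u v (oneChar G) h01 h02 cu cv cuv
  have S5 : ∀ {R : Type} [AddCommMonoid R] (f : Cfsg.IrrCharacter G → R),
      (∀ i, u i = 0 → v i = 0 → f i = 0) → ∑ i, f i = f (oneChar G) + f p + f q + f r + f s :=
    fun f hf => sum_five _ p q r s hop hoq hor hos hpq hpr hps hqr hqs hrs f
      fun i a b c d' e' => hf i (hout i a b c d' e').1 (hout i a b c d' e').2
  rw [S5 (fun i => d i * u i) (fun i h _ => by simp only [h, mul_zero])] at cdu
  rw [S5 (fun i => d i * v i) (fun i _ h => by simp only [h, mul_zero])] at cdv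
  simp only [h0d, h01, h02, hvp, huq, hvr, hvs, mul_zero, one_mul, add_zero] at cdu cdv
  have hEa := class_equation e ht hone a (card_pairs_rot e ht)
  have hEt := class_equation e ht hone t (card_pairs_self e ht)
  rw [S5 _ (fun i h _ => by rw [eai, h]; simp)] at hEa
  rw [S5 _ (fun i h h' => by rw [htt, et, h, h']; simp)] at hEt
  simp only [eai, et, e1, htt, h0d, h01, h02, hvp, huq, hvr, hvs, Int.cast_one, Int.cast_zero] at hEa hEt
  have sq_pm : ∀ z : ℤ, (z = 1 ∨ z = -1) → (z : ℂ) * z = 1 := fun z hz => by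
    rcases hz with h | h <;> simp [h]
  refine Arith.order_eq (n := Nat.card G) (d₁ := d p) (d₂ := d q) (d₃ := d r) (d₄ := d s) (σ := u p) (τ := v q)
    (e₃ := u r) (e₄ := u s) ?_ Nat.card_pos (hpos p) (hpos q) (hpos r) (hpos s) hup hvq hur hus ?_ ?_ ?_ ?_ ?_ ?_
  · rw [← card_centralizer e]; exact Subgroup.card_subgroup_dvd_card _
  · intro h
    refine hop (hlin p ?_).symm
    rw [e1, h, Int.cast_one]
  · have := hcong r
    rw [hvr] at this
    simpa using this
  · linarith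
  · linarith
  · have key : (Nat.card G : ℂ) * (1 + (u p : ℂ) / d p + (u r : ℂ) / d r + (u s : ℂ) / d s) = 256 := by
      rw [← hEa]
      have p1 := sq_pm _ hup
      have r1 := sq_pm _ hur
      have s1 := sq_pm _ hus
      push_cast
      linear_combination (-(Nat.card G : ℂ) * (u p : ℂ) / d p) * p1 - ((Nat.card G : ℂ) * (u r : ℂ) / d r) * r1
        - ((Nat.card G : ℂ) * (u s : ℂ) / d s) * s1
    exact_mod_cast key
  · have key : (Nat.card G : ℂ) *
        (1 + (u p : ℂ) / d p + 8 * (v q : ℂ) / d q - (u r : ℂ) / d r - (u s : ℂ) / d s) = 256 := by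
      rw [← hEt]
      have p1 := sq_pm _ hup
      have q1 := sq_pm _ hvq
      have r1 := sq_pm _ hur
      have s1 := sq_pm _ hus
      push_cast
      linear_combination (-(Nat.card G : ℂ) * (u p : ℂ) / d p) * p1 - (8 * (Nat.card G : ℂ) * (v q : ℂ) / d q) * q1
        + ((Nat.card G : ℂ) * (u r : ℂ) / d r) * r1 + ((Nat.card G : ℂ) * (u s : ℂ) / d s) * s1
    exact_mod_cast key

end Cfsg.Agent.Lib.DihedralCentralizer
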