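/-
An involution whose centraliser is a four-group Sylow subgroup.
-/
import Cfsg.Agent.Lib.DihedralCentralizer.Order
import Cfsg.Agent.Lib.Involutions.KleinSylow
import Cfsg.Agent.Lib.Classif.OrderSieve
import Cfsg.Agent.S0494
import Cfsg.Prelude.Def_Transfer

set_option autoImplicit false

namespace Cfsg.Agent.Lib.DihedralCentralizer.Klein

open Cfsg.Agent.Lib.Characters.Basic Cfsg.Agent.Lib.Characters.Complete
open scoped ComplexConjugate commutatorElement

universe u

variable {G : Type u} [Group G] [Finite G] {t : G}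

/-- The class multiplication equation. -/
theorem class_equation [Fintype (Cfsg.IrrCharacter G)] (ht : orderOf t = 2)
    (h4 : Nat.card ↥(Subgroup.centralizer ({t} : Set G)) = 4)
    (hsq : ∀ c ∈ Subgroup.centralizer ({t} : Set G), c * c = 1)
    (hone : ∀ u : G, orderOf u = 2 → IsConj t u) :
    (Nat.card G : ℂ) * ∑ χ : Cfsg.IrrCharacter G,
      (χ : G → ℂ) t ^ 3 / (χ : G → ℂ) 1 = 32 := by
  classical
  letI := Fintype.ofFinite G
  have hG : (Nat.card G : ℂ) ≠ 0 := Nat.cast_ne_zero.2 Nat.card_pos.ne'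
  have htt : t * t = 1 := by rw [← pow_two, ← ht, pow_orderOf_eq_one]
  have ht1 : t ≠ 1 := fun h => by rw [h, orderOf_one] at ht; norm_num at ht
  have hinv : ∀ a : G, (a * t * a⁻¹) * (a * t * a⁻¹) = 1 := fun a => by
    calc (a * t * a⁻¹) * (a * t * a⁻¹) = a * (t * t) * a⁻¹ := by group
      _ = 1 := by rw [htt]; group
  have hne : ∀ a : G, a * t * a⁻¹ ≠ 1 := fun a h => ht1 (conj_eq_one_iff.1 h)
  have hfib : ∀ x : G, x ≠ 1 → x * x = 1 → (Finset.univ.filter fun a : G => a * t * a⁻¹ = x).card = 4 := by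
    intro x hx1 hxx
    obtain ⟨c, hc⟩ := isConj_iff.1 (hone x (orderOf_eq_prime (p := 2) (by rw [pow_two, hxx]) hx1))
    rw [← h4, ← Fintype.card_subtype, ← Nat.card_eq_fintype_card]
    refine Nat.card_congr
      { toFun := fun a => ⟨c⁻¹ * a.1, ?_⟩
        invFun := fun k => ⟨c * k.1, ?_⟩
        left_inv := fun a => Subtype.ext (mul_inv_cancel_left _ _)
        right_inv := fun k => Subtype.ext (inv_mul_cancel_left _ _) }
    · rw [Subgroup.mem_centralizer_singleton_iff]
      calc c⁻¹ * a.1 * t = c⁻¹ * (a.1 * t * a.1⁻¹) * a.1 := by group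
        _ = c⁻¹ * (c * t * c⁻¹) * a.1 := by rw [a.2, hc]
        _ = _ := by group
    · have hk := Subgroup.mem_centralizer_singleton_iff.1 k.2
      calc c * k.1 * t * (c * k.1)⁻¹ = c * (k.1 * t) * k.1⁻¹ * c⁻¹ := by group
        _ = c * (t * k.1) * k.1⁻¹ * c⁻¹ := by rw [hk]
        _ = c * t * c⁻¹ := by group
        _ = x := hc
  set X : Finset G := Finset.univ.filter fun x => x ≠ 1 ∧ x * x = 1 ∧ x * t ≠ 1 ∧ x * t * (x * t) = 1 with hX
  have hXc : X.card = 2 := by
    have htC : t ∈ Subgroup.centralizer ({t} : Set G) := Subgroup.mem_centralizer_singleton_iff.2 rfl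
    have hXe : X = (Finset.univ.filter fun x : G => x ∈ Subgroup.centralizer ({t} : Set G)) \ {1, t} := by
      ext x
      simp only [hX, Finset.mem_filter, Finset.mem_univ, true_and, Finset.mem_sdiff, Finset.mem_insert,
        Finset.mem_singleton, not_or]
      constructor
      · rintro ⟨h1, h2, h3, h4'⟩
        refine ⟨Subgroup.mem_centralizer_singleton_iff.2 ?_, h1, fun h => h3 (by rw [h, htt])⟩
        calc x * t = (x * t)⁻¹ := (inv_eq_of_mul_eq_one_right h4').symm
          _ = t⁻¹ * x⁻¹ := mul_inv_rev x t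
          _ = _ := by rw [inv_eq_of_mul_eq_one_right htt, inv_eq_of_mul_eq_one_right h2]
      · rintro ⟨h1, h2, h3⟩
        refine ⟨h2, hsq x h1, fun h => h3 ?_, hsq _ (Subgroup.mul_mem _ h1 htC)⟩
        rw [eq_inv_of_mul_eq_one_left h, inv_eq_of_mul_eq_one_right htt]
    rw [hXe, Finset.card_sdiff_of_subset, ← Fintype.card_subtype, ← Nat.card_eq_fintype_card, h4,
      Finset.card_pair (Ne.symm ht1)]
    intro x hx
    simp only [Finset.mem_insert, Finset.mem_singleton] at hx
    rcases hx with rfl | rfl <;> simp [Subgroup.mem_centralizer_singleton_iff]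
  have hcount : ∑ a : G, ∑ b : G, (if t * (a * t * a⁻¹) * (b * t * b⁻¹) = 1 then (1 : ℂ) else 0) = 32 := by
    have h1 : ∀ a : G, ∑ b : G, (if t * (a * t * a⁻¹) * (b * t * b⁻¹) = 1 then (1 : ℂ) else 0) =
        if a * t * a⁻¹ ∈ X then 4 else 0 := by
      intro a
      have hiff : ∀ b : G, t * (a * t * a⁻¹) * (b * t * b⁻¹) = 1 ↔ b * t * b⁻¹ = a * t * a⁻¹ * t := by
        intro b
        constructor
        · intro h
          calc b * t * b⁻¹ = (a * t * a⁻¹)⁻¹ * t⁻¹ * (t * (a * t * a⁻¹) * (b * t * b⁻¹)) := by group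
            _ = _ := by rw [h, mul_one, inv_eq_of_mul_eq_one_right (hinv a), inv_eq_of_mul_eq_one_right htt]
        · intro h
          rw [h]
          calc t * (a * t * a⁻¹) * (a * t * a⁻¹ * t) = t * ((a * t * a⁻¹) * (a * t * a⁻¹)) * t := by group
            _ = 1 := by rw [hinv, mul_one, htt]
      simp only [hiff]
      rw [Finset.sum_boole]
      by_cases hm : a * t * a⁻¹ ∈ X
      · rw [if_pos hm]
        have hm' := (Finset.mem_filter.1 hm).2
        rw [hfib _ hm'.2.2.1 hm'.2.2.2]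
        norm_num
      · rw [if_neg hm, Nat.cast_eq_zero, Finset.card_eq_zero, Finset.filter_eq_empty_iff]
        intro b _ hb
        exact hm (Finset.mem_filter.2 ⟨Finset.mem_univ _, hne a, hinv a, hb ▸ hne b, hb ▸ hinv b⟩)
    simp only [h1]
    rw [← Finset.sum_filter, Finset.sum_const, nsmul_eq_mul]
    have h2 : (Finset.univ.filter fun a : G => a * t * a⁻¹ ∈ X).card = 8 := by
      rw [Finset.card_eq_sum_card_fiberwise (s := Finset.univ.filter fun a : G => a * t * a⁻¹ ∈ X)
        (f := fun a : G => a * t * a⁻¹) (t := X) (fun a ha => (Finset.mem_filter.1 ha).2)]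
      rw [Finset.sum_congr rfl fun x hx => ?_, Finset.sum_const, hXc]
      · show 2 • 4 = 8
        norm_num
      · have hx' := (Finset.mem_filter.1 hx).2
        rw [← hfib x hx'.1 hx'.2.1]
        congr 1
        ext a
        simp only [Finset.mem_filter, Finset.mem_univ, true_and]
        exact ⟨fun h => h.2, fun h => ⟨h ▸ hx, h⟩⟩
    rw [h2]; norm_num
  have key : ∀ χ : Cfsg.IrrCharacter G,
      ∑ a : G, ∑ b : G, (χ : G → ℂ) (t * (a * t * a⁻¹) * (b * t * b⁻¹)) =
        (Nat.card G : ℂ) ^ 2 * (χ : G → ℂ) t ^ 3 / (χ : G → ℂ) 1 ^ 2 := by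
    intro χ
    have h1 := apply_one_ne_zero χ
    simp only [Cfsg.Agent.Lib.H80.ClassMult.sum_apply_mul_conj, ← Finset.sum_div, ← Finset.sum_mul,
      ← Finset.mul_sum]
    field_simp
  apply mul_left_cancel₀ hG
  rw [← hcount]
  have hsd : ∀ h : G, (Nat.card G : ℂ) * (if h = 1 then (1 : ℂ) else 0) =
      ∑ χ : Cfsg.IrrCharacter G, (χ : G → ℂ) 1 * (χ : G → ℂ) h := fun h => by
    rw [sum_degree_mul_apply]; split_ifs <;> simp
  rw [Finset.mul_sum]
  simp only [Finset.mul_sum, hsd]
  conv_rhs => enter [2, a]; rw [Finset.sum_comm]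
  rw [Finset.sum_comm]
  refine Finset.sum_congr rfl fun χ _ => ?_
  simp only [← Finset.mul_sum, key]
  have h1 := apply_one_ne_zero χ
  field_simp

/-- Values at an involution. -/
theorem exists_values (χ : Cfsg.IrrCharacter G) (ht : orderOf t = 2) (hone : ∀ u : G, orderOf u = 2 → IsConj t u)
    (h4 : Nat.card ↥(Subgroup.centralizer ({t} : Set G)) = 4)
    (hsq : ∀ c ∈ Subgroup.centralizer ({t} : Set G), c * c = 1) :
    ∃ d e : ℤ, 0 < d ∧ (χ : G → ℂ) 1 = d ∧ (χ : G → ℂ) t = e ∧ (4 : ℤ) ∣ d + 3 * e := by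
  classical
  letI := Fintype.ofFinite G
  obtain ⟨n, hn, hd⟩ := exists_degree_pos χ
  have htt : t * t = 1 := by rw [← pow_two, ← ht, pow_orderOf_eq_one]
  obtain ⟨c, hc⟩ : ∃ c : ℤ, (χ : G → ℂ) t = c := by
    obtain ⟨n, ρ, -, hχ⟩ := exists_rep χ
    obtain ⟨ι, hι, b, ζ, hζ, -, htr⟩ :=
      Cfsg.Agent.Lib.Characters.Diag.exists_eigenbasis ρ t two_ne_zero (by rw [pow_two, htt])
    have : ∀ i, ∃ c : ℤ, ζ i = c := fun i => by
      rcases sq_eq_one_iff.1 (hζ i).2 with h | h
      · exact ⟨1, by simp [h]⟩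
      · exact ⟨-1, by simp [h]⟩
    choose c hc using this
    exact ⟨∑ i, c i, by rw [← hχ, htr]; simp [hc]⟩
  obtain ⟨m, hm⟩ := Cfsg.Agent.Lib.H80.ClassMult.exists_sum_subgroup χ (Subgroup.centralizer ({t} : Set G))
  set C := Subgroup.centralizer ({t} : Set G)
  have hval : ∀ u : ↥C, (χ : G → ℂ) u = if u = 1 then (n : ℂ) else (c : ℂ) := by
    intro u
    split_ifs with hu
    · rw [hu, Subgroup.coe_one, hd]
    · rw [← hc]
      refine (classFunction_apply_of_isConj (isClassFunction_irr χ) (hone _ ?_)).symm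
      exact orderOf_eq_prime (p := 2) (by rw [pow_two, hsq u u.2]) (fun h => hu (Subtype.ext h))
  simp only [hval, Finset.sum_ite, Finset.sum_const, nsmul_eq_mul] at hm
  have h1 : (Finset.univ.filter fun u : ↥C => u = 1).card = 1 := by simp [Finset.filter_eq']
  have h3 : (Finset.univ.filter fun u : ↥C => ¬ u = 1).card = 3 := by
    have := Finset.card_filter_add_card_filter_not (s := (Finset.univ : Finset ↥C)) (fun u => u = 1)
    rw [h1, Finset.card_univ, ← Nat.card_eq_fintype_card, h4] at this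
    omega
  rw [h1, h3, h4] at hm
  refine ⟨n, c, by exact_mod_cast hn, by simp [hd], hc, m, ?_⟩
  have hm' : ((((n : ℤ) + 3 * c : ℤ)) : ℂ) = ((4 * (m : ℤ) : ℤ) : ℂ) := by push_cast at hm ⊢; linear_combination hm
  exact_mod_cast hm'

theorem arith {n : ℕ} {a b c ea eb ec : ℤ} (hn : 4 ∣ n) (hpos : 0 < n) (ha : 1 < a) (hb : 1 < b) (hc : 1 < c)
    (ea1 : ea = 1 ∨ ea = -1) (eb1 : eb = 1 ∨ eb = -1) (ec1 : ec = 1 ∨ ec = -1)
    (h4a : 4 ∣ a + 3 * ea) (h4b : 4 ∣ b + 3 * eb) (h4c : 4 ∣ c + 3 * ec)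
    (hd : 1 + ea * a + eb * b + ec * c = 0)
    (hS : (n : ℚ) * (1 + (ea : ℚ) / a + (eb : ℚ) / b + (ec : ℚ) / c) = 32) : n ≤ 60 := by
  have hn0 : (0 : ℚ) ≤ n := Nat.cast_nonneg n
  have lb : ∀ (x e : ℤ), 1 < x → (e = 1 ∨ e = -1) → 4 ∣ x + 3 * e →
      (e = 1 ∧ 5 ≤ x ∧ 0 ≤ (e : ℚ) / x) ∨ (e = -1 ∧ x = 3) ∨ (e = -1 ∧ 7 ≤ x ∧ -(1/7 : ℚ) ≤ (e : ℚ) / x) := by
    intro x e hx he h4
    rcases he with rfl | rfl
    · left
      refine ⟨rfl, by omega, by positivity⟩
    · right
      by_cases h3 : x = 3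
      · exact Or.inl ⟨rfl, h3⟩
      · refine Or.inr ⟨rfl, by omega, ?_⟩
        have h7 : (7 : ℚ) ≤ x := by exact_mod_cast (show (7 : ℤ) ≤ x by omega)
        push_cast
        rw [neg_div, neg_le_neg_iff]
        exact one_div_le_one_div_of_le (by norm_num) h7
  have fin : (11 / 21 : ℚ) ≤ 1 + (ea : ℚ) / a + (eb : ℚ) / b + (ec : ℚ) / c → n ≤ 60 := by
    intro h
    have h' : (n : ℚ) * (11 / 21) ≤ 32 := hS ▸ mul_le_mul_of_nonneg_left h hn0
    have : (n : ℚ) < 62 := by linarith
    have : n < 62 := by exact_mod_cast this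
    omega
  apply fin
  rcases lb a ea ha ea1 h4a with ⟨rfl, ha', qa⟩ | ⟨rfl, rfl⟩ | ⟨rfl, ha', qa⟩ <;>
    rcases lb b eb hb eb1 h4b with ⟨rfl, hb', qb⟩ | ⟨rfl, rfl⟩ | ⟨rfl, hb', qb⟩ <;>
    rcases lb c ec hc ec1 h4c with ⟨rfl, hc', qc⟩ | ⟨rfl, rfl⟩ | ⟨rfl, hc', qc⟩ <;>
    first
    | (exfalso; omega)
    | (push_cast at *; linarith)
    | (have h5 : a = 5 := by omega
       subst h5
       norm_num)
    | (have h5 : b = 5 := by omega
       subst h5
       norm_num)
    | (have h5 : c = 5 := by omega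
       subst h5
       norm_num)

/-- A group with an involution centralised exactly by a four-group Sylow subgroup is either
`2`-nilpotent, has a normal four-group, or is `A₅`. -/
theorem cases (P : Sylow 2 G) (hP : IsKleinFour (P : Subgroup G)) (ht : orderOf t = 2)
    (hC : Subgroup.centralizer ({t} : Set G) = (P : Subgroup G)) (hO : ∀ N : Subgroup G, N.Normal → Odd (Nat.card N) → N = ⊥) :
    Cfsg.HasNormalPComplement 2 G ∨ (P : Subgroup G).Normal ∨ Nonempty (G ≃* ↥(alternatingGroup (Fin 5))) := by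
  classical
  by_cases hnc : Cfsg.HasNormalPComplement 2 G
  · exact Or.inl hnc
  by_cases hPn : (P : Subgroup G).Normal
  · exact Or.inr (Or.inl hPn)
  right; right
  haveI : Fact (Nat.Prime 2) := ⟨Nat.prime_two⟩
  have htP : t ∈ (P : Subgroup G) := hC ▸ Subgroup.mem_centralizer_singleton_iff.2 rfl
  have ht1 : t ≠ 1 := fun h => by rw [h, orderOf_one] at ht; norm_num at ht
  have hcP : Nat.card ↥(P : Subgroup G) = 4 := hP.card_four
  have hone : ∀ u : G, orderOf u = 2 → IsConj t u := by
    rcases Cfsg.Agent.Lib.Involutions.KleinSylow.card_classes hP with h | h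
    · intro u hu
      obtain ⟨C, hCu⟩ := Nat.card_eq_one_iff_exists.1 h
      have h1 := hCu ⟨ConjClasses.mk t, t, ht, rfl⟩
      have h2 := hCu ⟨ConjClasses.mk u, u, hu, rfl⟩
      exact ConjClasses.mk_eq_mk_iff_isConj.1 (congrArg Subtype.val (h1.trans h2.symm))
    · exfalso
      obtain ⟨N, hN, hcomp⟩ := (Cfsg.Agent.Lib.Involutions.KleinSylow.card_classes_eq_three_iff hP).1 h
      exact hnc ⟨P, N, hN, hcomp⟩
  -- simplicity
  haveI : Nontrivial G := ⟨⟨t, 1, ht1⟩⟩
  have heven : ∀ M : Subgroup G, M.Normal → M ≠ ⊥ → t ∈ M := by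
    intro M hM hne
    have h2 : 2 ∣ Nat.card ↥M := by
      by_contra h
      exact hne (hO M hM (Nat.odd_iff.2 (Nat.two_dvd_ne_zero.1 h)))
    obtain ⟨u, hu⟩ := exists_prime_orderOf_dvd_card' (G := ↥M) 2 h2
    rw [← Subgroup.orderOf_coe] at hu
    obtain ⟨g, hg⟩ := isConj_iff.1 (hone u hu).symm
    exact hg ▸ hM.conj_mem _ u.2 g
  have hPle : ∀ M : Subgroup G, M.Normal → M ≠ ⊥ → (P : Subgroup G) ≤ M := by
    intro M hM hne x hx
    by_cases hx1 : x = 1
    · rw [hx1]; exact M.one_mem
    obtain ⟨g, hg⟩ := isConj_iff.1 (hone x (Cfsg.Agent.Lib.Involutions.KleinSylow.orderOf_mem hP hx hx1))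
    exact hg ▸ hM.conj_mem _ (heven M hM hne) g
  have hsimple : IsSimpleGroup G := by
    refine ⟨fun M hM => or_iff_not_imp_left.2 fun hne => ?_⟩
    haveI := hM
    have hPM := hPle M hM hne
    have hF := Sylow.normalizer_sup_eq_top (P.subtype hPM)
    rw [Sylow.coe_subtype, Subgroup.map_subgroupOf_eq_of_le hPM] at hF
    set K := Subgroup.normalizer ((P : Subgroup G) : Set G) with hK
    by_cases hKM : K ≤ M
    · exact top_le_iff.1 (hF ▸ sup_le hKM le_rfl)
    exfalso
    -- `N_M(P) = P`, so `M` is `2`-nilpotent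
    have hcl : Subgroup.centralizer ((P : Subgroup G) : Set G) ≤ (P : Subgroup G) := by
      intro x hx
      rw [← hC, Subgroup.mem_centralizer_singleton_iff]
      exact (Subgroup.mem_centralizer_iff.1 hx t htP).symm
    have hKcard : Nat.card ↥K ∣ 4 * 3 := by
      let act : ↥K →* Equiv.Perm {a : ↥(P : Subgroup G) // a ≠ 1} :=
        { toFun := fun k =>
            { toFun := fun a => ⟨⟨(k : G) * a.1.1 * (k : G)⁻¹, (Subgroup.mem_normalizer_iff.1 k.2 _).1 a.1.2⟩,
                fun h => a.2 (Subtype.ext (conj_eq_one_iff.1 (congrArg Subtype.val h)))⟩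
              invFun := fun a => ⟨⟨(k : G)⁻¹ * a.1.1 * (k : G), by
                  simpa using (Subgroup.mem_normalizer_iff.1 (K.inv_mem k.2) _).1 a.1.2⟩,
                fun h => a.2 (Subtype.ext (by
                  have h' := congrArg Subtype.val h
                  simp at h'
                  calc a.1.1 = (k : G) * ((k : G)⁻¹ * a.1.1 * (k : G)) * (k : G)⁻¹ := by group
                    _ = 1 := by rw [h']; group))⟩
              left_inv := fun a => by ext; simp [mul_assoc]
              right_inv := fun a => by ext; simp [mul_assoc] }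
          map_one' := by ext; simp
          map_mul' := fun a b => by ext; simp [mul_assoc] }
      have hker : act.ker ≤ (P : Subgroup G).subgroupOf K := by
        intro k hk
        refine hcl (Subgroup.mem_centralizer_iff.2 fun a ha => ?_)
        by_cases ha1 : a = 1
        · subst ha1; simp
        · have := congrArg (fun σ => ((σ ⟨⟨a, ha⟩, fun h => ha1 (congrArg Subtype.val h)⟩).1 : G)) (MonoidHom.mem_ker.1 hk)
          exact (mul_inv_eq_iff_eq_mul.1 this).symm
      have hker' : act.ker = (P : Subgroup G).subgroupOf K := by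
        refine le_antisymm hker fun k hk => MonoidHom.mem_ker.2 (Equiv.ext fun a => ?_)
        apply Subtype.ext; apply Subtype.ext
        show (k : G) * a.1.1 * (k : G)⁻¹ = a.1.1
        haveI : IsMulCommutative (P : Subgroup G) := IsKleinFour.isMulCommutative
        rw [setLike_mul_comm (Subgroup.mem_subgroupOf.1 hk) a.1.2, mul_inv_cancel_right]
      have h6 : Nat.card {a : ↥(P : Subgroup G) // a ≠ 1} = 3 :=
        Cfsg.Agent.Lib.Involutions.KleinSylow.card_ne_one hP
      have hq : act.ker.index ∣ 6 := by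
        rw [Subgroup.index_ker]
        have := Subgroup.card_subgroup_dvd_card act.range
        rwa [Nat.card_perm, h6] at this
      have hodd : ¬ 2 ∣ act.ker.index := by
        rw [hker']
        have := P.not_dvd_index
        exact fun h => this (h.trans (Subgroup.relIndex_dvd_index_of_le (Subgroup.le_normalizer)))
      rw [← Subgroup.card_mul_index act.ker, hker', Nat.card_congr (Subgroup.subgroupOfEquivOfLe Subgroup.le_normalizer).toEquiv, hcP]
      rw [hker'] at hq hodd
      refine Nat.mul_dvd_mul_left 4 ?_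
      exact (Nat.Coprime.dvd_of_dvd_mul_left ((Nat.Prime.coprime_iff_not_dvd Nat.prime_two).2 hodd).symm (show ((P : Subgroup G).subgroupOf K).index ∣ 2 * 3 from hq))
    have hKMeq : K ⊓ M = (P : Subgroup G) := by
      have hle : (P : Subgroup G) ≤ K ⊓ M := le_inf Subgroup.le_normalizer hPM
      refine (Subgroup.eq_of_le_of_card_ge hle ?_).symm
      rw [hcP]
      by_contra hlt
      push_neg at hlt
      have h1 : Nat.card ↥(K ⊓ M) ∣ 4 * 3 := (Subgroup.card_dvd_of_le inf_le_left).trans hKcard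
      have h2 : 4 ∣ Nat.card ↥(K ⊓ M) := hcP ▸ Subgroup.card_dvd_of_le hle
      have h3 : Nat.card ↥(K ⊓ M) = 12 := by
        obtain ⟨j, hj⟩ := h2
        rw [hj] at h1 hlt ⊢
        have := (Nat.mul_dvd_mul_iff_left (by norm_num : 0 < 4)).1 h1
        rcases (Nat.dvd_prime Nat.prime_three).1 this with rfl | rfl
        · omega
        · rfl
      have hK12 : Nat.card ↥K ≤ Nat.card ↥(K ⊓ M) := h3 ▸ Nat.le_of_dvd (by norm_num) hKcard
      exact hKM ((Subgroup.eq_of_le_of_card_ge inf_le_left hK12).ge.trans inf_le_right)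
    haveI : IsMulCommutative (P : Subgroup G) := IsKleinFour.isMulCommutative
    have hburn : Cfsg.HasNormalPComplement 2 ↥M := by
      set PM := P.subtype hPM
      have hle : Subgroup.normalizer ((PM : Subgroup ↥M) : Set ↥M) ≤ Subgroup.centralizer ((PM : Subgroup ↥M) : Set ↥M) := by
        intro n hn
        have hnK : (n : G) ∈ K := by
          rw [hK, Subgroup.mem_normalizer_iff]
          intro y
          constructor
          · intro hy
            exact (Subgroup.mem_normalizer_iff.1 hn ⟨y, hPM hy⟩).1 hy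
          · intro hy
            have h := (Subgroup.mem_normalizer_iff.1 (Subgroup.inv_mem _ hn) ⟨_, hPM hy⟩).1 hy
            rw [Sylow.coe_subtype, Subgroup.mem_subgroupOf] at h
            have e : ((n : G))⁻¹ * ((n : G) * y * (n : G)⁻¹) * (n : G) = y := by group
            simpa [e] using h
        have hnP : (n : G) ∈ (P : Subgroup G) := hKMeq ▸ ⟨hnK, n.2⟩
        rw [Subgroup.mem_centralizer_iff]
        intro y hy
        exact Subtype.ext (setLike_mul_comm hy hnP)
      exact ⟨PM, _, MonoidHom.normal_ker _, MonoidHom.ker_transferSylow_isComplement' PM hle⟩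
    obtain ⟨Q, L, hL, hLc⟩ := hburn
    have hLodd : Odd (Nat.card ↥L) := by
      rw [Nat.odd_iff, ← Nat.two_dvd_ne_zero, ← hLc.index_eq_card]
      exact Q.not_dvd_index
    have hLchar : (L.map M.subtype).Normal := by
      refine ⟨fun x hx g => ?_⟩
      obtain ⟨l, hl, rfl⟩ := hx
      refine ⟨⟨g * (l : G) * g⁻¹, hM.conj_mem _ l.2 g⟩, ?_, rfl⟩
      haveI := hL
      have hone' : ∀ y : ↥M, Odd (orderOf y) → y ∈ L := by
        intro y hy
        have hq : orderOf (QuotientGroup.mk' L y) ∣ 4 := by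
          have : Nat.card (↥M ⧸ L) = 4 := by
            rw [← Subgroup.index_eq_card, hLc.symm.index_eq_card]
            rw [← hcP, ← Nat.card_congr (Subgroup.subgroupOfEquivOfLe hPM).toEquiv]
            exact Nat.card_congr (Q.equiv (P.subtype hPM)).toEquiv
          exact this ▸ orderOf_dvd_natCard _
        have h1 : orderOf (QuotientGroup.mk' L y) ∣ orderOf y := orderOf_map_dvd _ y
        have h3 := Nat.eq_one_of_dvd_coprimes (show Nat.Coprime 4 (orderOf y) from
          (Nat.Coprime.pow_left 2 (Nat.coprime_two_left.2 hy))) hq h1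
        exact (QuotientGroup.eq_one_iff y).1 (orderOf_eq_one_iff.1 h3)
      apply hone'
      rw [← Subgroup.orderOf_coe]
      show Odd (orderOf (g * (l : G) * g⁻¹))
      rw [← MulAut.conj_apply, MulEquiv.orderOf_eq, Subgroup.orderOf_coe]
      exact hLodd.of_dvd_nat (Subgroup.orderOf_dvd_natCard L hl)
    have hLbot := hO _ hLchar (by rwa [Subgroup.card_map_of_injective M.subtype_injective])
    rw [Subgroup.map_eq_bot_iff_of_injective _ M.subtype_injective] at hLbot
    subst hLbot
    have hM4 : Nat.card ↥M = 4 := by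
      rw [← hLc.card_mul, Subgroup.card_bot, one_mul, ← hcP,
        ← Nat.card_congr (Subgroup.subgroupOfEquivOfLe hPM).toEquiv]
      exact Nat.card_congr (Q.equiv (P.subtype hPM)).toEquiv
    have : (P : Subgroup G) = M := Subgroup.eq_of_le_of_card_ge hPM (by rw [hM4, hcP])
    exact hPn (this ▸ hM)
  haveI := hsimple
  have hna : ¬ IsMulCommutative G := by
    intro h
    have := h
    exact hPn ⟨fun x hx g => by
      rw [this.is_comm.comm g x, mul_inv_cancel_right]; exact hx⟩
  have h4 : Nat.card ↥(Subgroup.centralizer ({t} : Set G)) = 4 := by rw [hC, hcP]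
  have hsq : ∀ c ∈ Subgroup.centralizer ({t} : Set G), c * c = 1 := fun c hc => by
    rw [hC] at hc; exact Cfsg.Agent.Lib.Involutions.KleinSylow.sq_eq_one hP hc
  have hlin : ∀ χ : Cfsg.IrrCharacter G, (χ : G → ℂ) 1 = 1 → χ = oneChar G := by
    intro χ hχ
    have hp : commutator G = ⊤ := by
      refine (hsimple.eq_bot_or_eq_top_of_normal _ inferInstance).resolve_left fun h => hna ⟨⟨fun a b => ?_⟩⟩
      have : ⁅a, b⁆ ∈ commutator G := Subgroup.commutator_mem_commutator (Subgroup.mem_top a) (Subgroup.mem_top b)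
      rw [h, Subgroup.mem_bot] at this
      exact commutatorElement_eq_one_iff_mul_comm.1 this
    refine Subtype.ext (funext fun g => ?_)
    exact Cfsg.Agent.Lib.H80.LinearChar.eq_one_of_mem_commutator χ hχ (hp ▸ Subgroup.mem_top g)
  letI := Fintype.ofFinite (Cfsg.IrrCharacter G)
  choose d e hd0 hd he h4d using fun χ : Cfsg.IrrCharacter G => exists_values χ ht hone h4 hsq
  have cee : ∑ χ, e χ * e χ = 4 := by
    have : ((∑ χ, e χ * e χ : ℤ) : ℂ) = ((4 : ℤ) : ℂ) := by
      rw [Int.cast_sum]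
      have h := sum_irr_mul_conj t t
      rw [if_pos (IsConj.refl t), h4] at h
      push_cast
      rw [show ((4 : ℂ)) = ((4 : ℕ) : ℂ) by norm_num, ← h]
      exact Finset.sum_congr rfl fun χ _ => by rw [he, map_intCast]
    exact_mod_cast this
  have cde : ∑ χ, d χ * e χ = 0 := by
    have : ((∑ χ, d χ * e χ : ℤ) : ℂ) = ((0 : ℤ) : ℂ) := by
      rw [Int.cast_sum]
      have h := sum_irr_mul_conj (1 : G) t
      rw [if_neg fun hc => by
        obtain ⟨c, hc⟩ := isConj_iff.1 hc
        rw [mul_one, mul_inv_cancel] at hc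
        exact ht1 hc.symm] at h
      push_cast
      rw [← h]
      exact Finset.sum_congr rfl fun χ _ => by rw [hd, he, map_intCast]
    exact_mod_cast this
  have h0d : d (oneChar G) = 1 := by
    have h := hd (oneChar G); rw [oneChar_apply] at h; exact_mod_cast h.symm
  have h0e : e (oneChar G) = 1 := by
    have h := he (oneChar G); rw [oneChar_apply] at h; exact_mod_cast h.symm
  set o := oneChar G with ho
  set E := (Finset.univ.erase o).filter fun χ => e χ ≠ 0 with hE
  have hsum : ∑ χ ∈ E, e χ * e χ = 3 := by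
    rw [hE, Finset.sum_filter_of_ne (p := fun χ => e χ ≠ 0) fun i _ h h0 => h (by rw [h0, mul_zero])]
    rw [← Finset.add_sum_erase _ _ (Finset.mem_univ o), h0e] at cee
    linarith
  have hb : ∀ χ ∈ E, e χ = 1 ∨ e χ = -1 := by
    intro χ hχ
    have h1 := (Finset.mem_filter.1 hχ).2
    have h2 := Finset.single_le_sum (f := fun χ => e χ * e χ) (fun i _ => mul_self_nonneg _) hχ
    rw [hsum] at h2
    have h3 : e χ * e χ ≤ 3 := h2
    have : -1 ≤ e χ ∧ e χ ≤ 1 := ⟨by nlinarith, by nlinarith⟩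
    omega
  have hcard : E.card = 3 := by
    rw [Finset.sum_congr rfl fun χ hχ => show e χ * e χ = 1 by rcases hb χ hχ with h | h <;> rw [h] <;> rfl,
      Finset.sum_const, nsmul_eq_mul, mul_one] at hsum
    exact_mod_cast hsum
  obtain ⟨p, q, r, hpq, hpr, hqr, hEe⟩ := Finset.card_eq_three.1 hcard
  have hmem : ∀ χ ∈ E, χ ≠ o ∧ 1 < d χ := fun χ hχ => by
    have h := Finset.ne_of_mem_erase (Finset.mem_filter.1 hχ).1
    refine ⟨h, ?_⟩
    have := hd0 χ
    by_contra hle
    exact h (hlin χ (by rw [hd, show d χ = 1 by omega, Int.cast_one]))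
  obtain ⟨hp0, hp1⟩ := hmem p (hEe ▸ by simp)
  obtain ⟨hq0, hq1⟩ := hmem q (hEe ▸ by simp)
  obtain ⟨hr0, hr1⟩ := hmem r (hEe ▸ by simp)
  have S4' : ∀ {R : Type} [AddCommMonoid R] (f : Cfsg.IrrCharacter G → R),
      (∀ i, e i = 0 → f i = 0) → ∑ i, f i = f o + f p + f q + f r := by
    intro R _ f hf
    rw [← Finset.add_sum_erase _ _ (Finset.mem_univ o),
      ← Finset.sum_filter_of_ne (p := fun χ => e χ ≠ 0) fun i _ h h0 => h (hf i h0), ← hE, hEe,
      Finset.sum_insert (by simp [hpq, hpr]), Finset.sum_pair hqr]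
    abel
  rw [S4' (fun i => d i * e i) (fun i h => by simp only [h, mul_zero])] at cde
  simp only [h0d, h0e, one_mul] at cde
  have hEq := class_equation ht h4 hsq hone
  rw [S4' _ (fun i h => by rw [he, h]; simp)] at hEq
  simp only [he, hd, h0d, h0e, Int.cast_one] at hEq
  have sq_pm : ∀ χ ∈ E, ((e χ : ℂ)) * e χ = 1 := fun χ hχ => by
    rcases hb χ hχ with h | h <;> simp [h]
  have hn4 : 4 ∣ Nat.card G := h4 ▸ Subgroup.card_subgroup_dvd_card _
  have hle : Nat.card G ≤ 60 := by
    refine arith hn4 Nat.card_pos hp1 hq1 hr1 (hb p (hEe ▸ by simp)) (hb q (hEe ▸ by simp))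
      (hb r (hEe ▸ by simp)) (h4d p) (h4d q) (h4d r) (by linarith) ?_
    have key : (Nat.card G : ℂ) * (1 + (e p : ℂ) / d p + (e q : ℂ) / d q + (e r : ℂ) / d r) = 32 := by
      rw [← hEq]
      have p1 := sq_pm p (hEe ▸ by simp)
      have q1 := sq_pm q (hEe ▸ by simp)
      have r1 := sq_pm r (hEe ▸ by simp)
      linear_combination (-(Nat.card G : ℂ) * (e p : ℂ) / d p) * p1 - ((Nat.card G : ℂ) * (e q : ℂ) / d q) * q1
        - ((Nat.card G : ℂ) * (e r : ℂ) / d r) * r1
    exact_mod_cast key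
  have hs := Cfsg.Agent.Lib.Classif.OrderSieve.card_mem_survivors hna (by omega)
  simp [Cfsg.Agent.Lib.Classif.OrderSieve.survivors] at hs
  exact Cfsg.Agent.S0494.result (by omega)

end Cfsg.Agent.Lib.DihedralCentralizer.Klein
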