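/-
The order formula for a group with a four-group Sylow subgroup, one class of involutions, and
all involutions of a centraliser inside the Sylow subgroup.
-/
import Cfsg.Agent.S0948
import Cfsg.Agent.Lib.Blocks.LocalRing
import Cfsg.Agent.Lib.Characters.Kernel
import Cfsg.Agent.Lib.H80.ClassMult
import Cfsg.Agent.Lib.Cores.Pi

set_option autoImplicit false

namespace Cfsg.Agent.Lib.DihedralCentralizer.FourGroup

open Cfsg.Agent.Lib.Characters.Basic Cfsg.Agent.Lib.Characters.Complete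
open scoped ComplexConjugate

universe u

variable {G : Type u} [Group G] [Finite G] {x : G}

theorem odd_orderOf (u : ↥(Subgroup.centralizer ({x} : Set G))) (hu : u ∈ (Cfsg.pPrimeCore 2 ↥(Subgroup.centralizer ({x} : Set G)))) : Odd (orderOf (u : G)) := by
  rw [Subgroup.orderOf_coe, Nat.odd_iff, ← Nat.two_dvd_ne_zero]
  exact fun h => Cfsg.Agent.Lib.Cores.not_dvd_card_pPrimeCore 2 (h.trans (Subgroup.orderOf_dvd_natCard (Cfsg.pPrimeCore 2 ↥(Subgroup.centralizer ({x} : Set G))) hu))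

theorem x_mem : x ∈ (Subgroup.centralizer ({x} : Set G)) := Subgroup.mem_centralizer_singleton_iff.2 rfl

theorem commute_coe (u : ↥(Subgroup.centralizer ({x} : Set G))) : Commute x (u : G) :=
  (Subgroup.mem_centralizer_singleton_iff.1 u.2).symm

/-- On the principal block a character is constant on `x (Cfsg.pPrimeCore 2 ↥(Subgroup.centralizer ({x} : Set G)))`. -/
theorem value_eq (M : Ideal Cfsg.AlgInt) (hM : Cfsg.IsPModular 2 M) (hx : orderOf x = 2)
    (hidx : ∃ k : ℕ, (Cfsg.pPrimeCore 2 ↥(Subgroup.centralizer ({x} : Set G))).index = 2 ^ k) (ζ : Cfsg.IrrCharacter G) (hζ : ζ ∈ Cfsg.principalBlock M G)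
    (u : ↥(Subgroup.centralizer ({x} : Set G))) (hu : u ∈ (Cfsg.pPrimeCore 2 ↥(Subgroup.centralizer ({x} : Set G)))) : (ζ : G → ℂ) (x * u) = (ζ : G → ℂ) x := by
  classical
  haveI : Fact (Nat.Prime 2) := ⟨Nat.prime_two⟩
  haveI := hM.2.1
  haveI := Fintype.ofFinite (Cfsg.IrrCharacter G)
  have hx1 : x ≠ 1 := fun h => by rw [h, orderOf_one] at hx; norm_num at hx
  have hz : ∃ k : ℕ, orderOf x = 2 ^ k := ⟨1, by rw [hx]; rfl⟩
  set zH : ↥(Subgroup.centralizer ({x} : Set G)) := ⟨x, x_mem⟩ with hzH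
  have hzc : ∀ w : ↥(Subgroup.centralizer ({x} : Set G)), Commute zH w := fun w => Subtype.ext (commute_coe w).eq
  have hodd : ∀ w : ↥(Subgroup.centralizer ({x} : Set G)), w ∈ (Cfsg.pPrimeCore 2 ↥(Subgroup.centralizer ({x} : Set G))) → ¬ 2 ∣ orderOf w := fun w hw => by
    rw [← Subgroup.orderOf_coe, Nat.two_dvd_ne_zero, ← Nat.odd_iff]
    exact odd_orderOf w hw
  have hpart : ∀ w : ↥(Subgroup.centralizer ({x} : Set G)), w ∈ (Cfsg.pPrimeCore 2 ↥(Subgroup.centralizer ({x} : Set G))) → Cfsg.IsPPart 2 ((zH * w : ↥(Subgroup.centralizer ({x} : Set G))) : G) x := fun w hw =>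
    ⟨w, rfl, congrArg Subtype.val (hzc w).eq, hz, by rw [Subgroup.orderOf_coe]; exact hodd w hw⟩
  have hp1 : Cfsg.IsPPart 2 ((zH : ↥(Subgroup.centralizer ({x} : Set G))) : G) x := by simpa using hpart 1 (one_mem _)
  have h47 : ∀ w : ↥(Subgroup.centralizer ({x} : Set G)), w ∈ (Cfsg.pPrimeCore 2 ↥(Subgroup.centralizer ({x} : Set G))) → ∑ᶠ ζ ∈ Cfsg.principalBlock M G, ‖(ζ : G → ℂ) (x * (w : G))‖ ^ 2 =
      ((2 ^ (Nat.card ↥(Subgroup.centralizer ({x} : Set G))).factorization 2 : ℕ) : ℝ) := fun w hw =>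
    (Cfsg.Agent.S0947.result 2 M hM x hz hx1 w (hodd w hw)).2 hidx
  have hx0 : ∑ᶠ ζ ∈ Cfsg.principalBlock M G, ‖(ζ : G → ℂ) x‖ ^ 2 =
      ((2 ^ (Nat.card ↥(Subgroup.centralizer ({x} : Set G))).factorization 2 : ℕ) : ℝ) := by simpa using h47 1 (one_mem _)
  -- the mixed sum
  have hcross : ∑ᶠ ζ ∈ Cfsg.principalBlock M G, (ζ : G → ℂ) (x * (u : G)) * (ζ : G → ℂ) x⁻¹ =
      ((2 ^ (Nat.card ↥(Subgroup.centralizer ({x} : Set G))).factorization 2 : ℕ) : ℂ) := by
    have hsec := Cfsg.Agent.Lib.BrauerMap.PrincipalSection.sum_principal_section hM (zH * u) zH (hpart u hu) hp1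
    rw [show ((zH * u : ↥(Subgroup.centralizer ({x} : Set G))) : G) = x * u from rfl, show ((zH : ↥(Subgroup.centralizer ({x} : Set G))) : G) = x from rfl] at hsec
    rw [hsec]
    obtain ⟨k, hk⟩ := hidx
    have hK : ¬ 2 ∣ Nat.card ↥(Cfsg.pPrimeCore 2 ↥(Subgroup.centralizer ({x} : Set G))) := Cfsg.Agent.Lib.Cores.not_dvd_card_pPrimeCore 2
    have hfac : (Nat.card ↥(Subgroup.centralizer ({x} : Set G))).factorization 2 = k := by
      rw [← (Cfsg.pPrimeCore 2 ↥(Subgroup.centralizer ({x} : Set G))).card_mul_index, hk, Nat.factorization_mul Nat.card_pos.ne' (pow_ne_zero _ two_ne_zero),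
        Finsupp.add_apply, Nat.factorization_eq_zero_of_not_dvd hK, Nat.prime_two.factorization_pow,
        Finsupp.single_eq_same, zero_add]
    rw [hfac, ← hk, ← Cfsg.Agent.Lib.BrauerMap.PrincipalSection.sum_sq_trivialOn (Cfsg.pPrimeCore 2 ↥(Subgroup.centralizer ({x} : Set G))),
      Cfsg.Agent.Lib.BrauerMap.PrincipalSection.principalBlock_eq_trivialOn hM (Cfsg.pPrimeCore 2 ↥(Subgroup.centralizer ({x} : Set G))) hK ⟨k, hk⟩]
    refine finsum_congr fun θ => finsum_congr fun hθ => ?_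
    rw [(Cfsg.Agent.Lib.Characters.Kernel.apply_mul_of_apply_eq_one (isCharacter_irr θ) (hθ u hu) zH).2]
    have h := Cfsg.Agent.Lib.BrauerMap.PrincipalSection.char_central_mul_mul_inv hzc θ 1
    rw [mul_one, inv_one] at h
    exact h
  rw [finsum_mem_eq_finite_toFinset_sum _ (Set.toFinite _)] at hx0 hcross
  have hu0 := h47 u hu
  rw [finsum_mem_eq_finite_toFinset_sum _ (Set.toFinite _)] at hu0
  set s := (Set.toFinite (Cfsg.principalBlock M G)).toFinset with hs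
  have hre : ∑ χ ∈ s, ((χ : G → ℂ) (x * (u : G)) * conj ((χ : G → ℂ) x)).re =
      ((2 ^ (Nat.card ↥(Subgroup.centralizer ({x} : Set G))).factorization 2 : ℕ) : ℝ) := by
    have h := congrArg Complex.re hcross
    rw [Complex.re_sum] at h
    simp only [apply_inv (isCharacter_irr _), Complex.natCast_re] at h
    exact h
  have hzero : ∑ χ ∈ s, ‖(χ : G → ℂ) (x * (u : G)) - (χ : G → ℂ) x‖ ^ 2 = 0 := by
    simp only [Complex.sq_norm, Complex.normSq_sub] at hu0 hx0 ⊢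
    rw [Finset.sum_sub_distrib, Finset.sum_add_distrib, hu0, hx0, ← Finset.mul_sum, hre]
    ring
  have := (Finset.sum_eq_zero_iff_of_nonneg fun χ _ => sq_nonneg _).1 hzero ζ ((Set.Finite.mem_toFinset _).2 hζ)
  exact sub_eq_zero.1 (norm_eq_zero.1 (pow_eq_zero_iff two_ne_zero |>.1 this))

/-- The order formula. -/
theorem order_formula (P : Sylow 2 G) (hP : IsKleinFour (P : Subgroup G)) (hx : orderOf x = 2)
    (hxP : x ∈ (P : Subgroup G)) (hone : ∀ s t : G, orderOf s = 2 → orderOf t = 2 → IsConj s t)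
    (hinv : ∀ a ∈ (Subgroup.centralizer ({x} : Set G)), orderOf a = 2 → a ∈ (P : Subgroup G)) :
    ∃ (f₂ f₃ f₄ : ℕ) (ε : ℤ) (ζ₂ ζ₃ ζ₄ : Cfsg.IrrCharacter G), (ε = 1 ∨ ε = -1) ∧
      (ζ₂ : G → ℂ) ≠ (fun _ => 1) ∧ (ζ₃ : G → ℂ) ≠ (fun _ => 1) ∧ (ζ₄ : G → ℂ) ≠ (fun _ => 1) ∧
      (ζ₂ : G → ℂ) 1 = f₂ ∧ (ζ₃ : G → ℂ) 1 = f₃ ∧ (ζ₄ : G → ℂ) 1 = f₄ ∧
      0 < f₂ ∧ 0 < f₃ ∧ 0 < f₄ ∧ (4 : ℤ) ∣ f₂ - 1 ∧ (4 : ℤ) ∣ f₃ - ε ∧ (4 : ℤ) ∣ f₄ + 1 ∧
      (1 : ℤ) + f₂ + ε * f₃ - f₄ = 0 ∧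
      Nat.card ↥(Subgroup.centralizer ({x} : Set G)) = 4 * Nat.card ↥(Cfsg.pPrimeCore 2 ↥(Subgroup.centralizer ({x} : Set G))) ∧
      (Nat.card G : ℚ) * (1 + 1 / f₂ + ε / f₃ - 1 / f₄) = 32 * Nat.card ↥(Cfsg.pPrimeCore 2 ↥(Subgroup.centralizer ({x} : Set G))) := by
  classical
  haveI : Fact (Nat.Prime 2) := ⟨Nat.prime_two⟩
  letI := Fintype.ofFinite G
  letI := Fintype.ofFinite (Cfsg.IrrCharacter G)
  obtain ⟨M, hM⟩ := Cfsg.Agent.Lib.Blocks.exists_isPModular 2 Nat.prime_two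
  obtain ⟨ζ₂, ζ₃, ζ₄, ε, hε, hn2, hn3, h23, h24, h34, hB, hval, hd2, hd3, hd4, hrel⟩ :=
    Cfsg.Agent.S0948.result M hM P hP hone
  have hx1 : x ≠ 1 := fun h => by rw [h, orderOf_one] at hx; norm_num at hx
  have hxx : x * x = 1 := by rw [← pow_two, ← hx, pow_orderOf_eq_one]
  obtain ⟨hidx, hfac⟩ := Cfsg.Agent.S0948.centralizer_pPrimeCore hP hxP hx1
  obtain ⟨k, hk⟩ := hidx
  have hUodd : ¬ 2 ∣ Nat.card ↥(Cfsg.pPrimeCore 2 ↥(Subgroup.centralizer ({x} : Set G))) := Cfsg.Agent.Lib.Cores.not_dvd_card_pPrimeCore 2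
  have hk2 : k = 2 := by
    rw [← (Cfsg.pPrimeCore 2 ↥(Subgroup.centralizer ({x} : Set G))).card_mul_index, hk, Nat.factorization_mul Nat.card_pos.ne' (pow_ne_zero _ two_ne_zero),
      Finsupp.add_apply, Nat.factorization_eq_zero_of_not_dvd hUodd, Nat.prime_two.factorization_pow,
      Finsupp.single_eq_same, zero_add] at hfac
    exact hfac
  have hC4 : Nat.card ↥(Subgroup.centralizer ({x} : Set G)) = 4 * Nat.card ↥(Cfsg.pPrimeCore 2 ↥(Subgroup.centralizer ({x} : Set G))) := by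
    rw [← (Cfsg.pPrimeCore 2 ↥(Subgroup.centralizer ({x} : Set G))).card_mul_index, hk, hk2]; ring
  have hn4 : (ζ₄ : G → ℂ) ≠ fun _ => 1 := fun h => by
    have := (hval x hx).2.2
    rw [h] at this
    norm_num at this
  obtain ⟨f₂, hf₂, hz₂⟩ := exists_degree_pos ζ₂
  obtain ⟨f₃, hf₃, hz₃⟩ := exists_degree_pos ζ₃
  obtain ⟨f₄, hf₄, hz₄⟩ := exists_degree_pos ζ₄
  have hdeg : ∀ (χ : Cfsg.IrrCharacter G) (f : ℕ), (χ : G → ℂ) 1 = f → Cfsg.charDegree (χ : G → ℂ) = f := by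
    intro χ f hf
    have h := (Cfsg.Agent.Lib.H80.ClassMult.deg_spec χ).2
    exact_mod_cast h.symm.trans hf
  rw [hdeg ζ₂ f₂ hz₂] at hd2
  rw [hdeg ζ₃ f₃ hz₃] at hd3
  rw [hdeg ζ₄ f₄ hz₄] at hd4
  have hrel1 : (1 : ℤ) + f₂ + ε * f₃ - f₄ = 0 := by
    have h := hrel 1 (by simp)
    rw [hz₂, hz₃, hz₄] at h
    exact_mod_cast h
  refine ⟨f₂, f₃, f₄, ε, ζ₂, ζ₃, ζ₄, hε, hn2, hn3, hn4, hz₂, hz₃, hz₄, hf₂, hf₃, hf₄, hd2, hd3, hd4, hrel1, hC4, ?_⟩
  -- the sums over `x (Cfsg.pPrimeCore 2 ↥(Subgroup.centralizer ({x} : Set G)))`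
  let Su : Cfsg.IrrCharacter G → ℂ := fun χ => ∑ u : ↥(Cfsg.pPrimeCore 2 ↥(Subgroup.centralizer ({x} : Set G))), (χ : G → ℂ) (x * ((u : ↥(Subgroup.centralizer ({x} : Set G))) : G))
  set B : Finset (Cfsg.IrrCharacter G) := {oneChar G, ζ₂, ζ₃, ζ₄} with hBdef
  have hBmem : ∀ χ, χ ∈ B → χ ∈ Cfsg.principalBlock M G := by
    intro χ hχ
    rw [hB]
    simp only [hBdef, Finset.mem_insert, Finset.mem_singleton] at hχ
    rcases hχ with rfl | rfl | rfl | rfl
    · exact Or.inl (funext oneChar_apply)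
    · exact Or.inr (Or.inl rfl)
    · exact Or.inr (Or.inr (Or.inl rfl))
    · exact Or.inr (Or.inr (Or.inr rfl))
  have hne : ∀ χ : Cfsg.IrrCharacter G, (χ : G → ℂ) ≠ (fun _ => 1) → oneChar G ≠ χ := fun χ h e =>
    h (e ▸ funext oneChar_apply)
  have hval' : (oneChar G : G → ℂ) x = 1 ∧ (ζ₂ : G → ℂ) x = 1 ∧ (ζ₃ : G → ℂ) x = ε ∧ (ζ₄ : G → ℂ) x = -1 :=
    ⟨oneChar_apply x, hval x hx⟩
  have hBsum : ∀ f : Cfsg.IrrCharacter G → ℂ, ∑ χ ∈ B, f χ = f (oneChar G) + (f ζ₂ + (f ζ₃ + f ζ₄)) := by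
    intro f
    rw [hBdef, Finset.sum_insert, Finset.sum_insert, Finset.sum_insert, Finset.sum_singleton] <;>
      simp [hne _ hn2, hne _ hn3, hne _ hn4, h23, h24, h34]
  have hSB : ∀ χ ∈ B, Su χ = (Nat.card ↥(Cfsg.pPrimeCore 2 ↥(Subgroup.centralizer ({x} : Set G))) : ℂ) * (χ : G → ℂ) x := by
    intro χ hχ
    simp only [Su]
    rw [Finset.sum_congr rfl fun (u : ↥(Cfsg.pPrimeCore 2 ↥(Subgroup.centralizer ({x} : Set G)))) _ => value_eq M hM hx ⟨k, hk⟩ χ (hBmem χ hχ) u.1 u.2,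
      Finset.sum_const, nsmul_eq_mul, Finset.card_univ, ← Nat.card_eq_fintype_card]
  -- column orthogonality on `x (Cfsg.pPrimeCore 2 ↥(Subgroup.centralizer ({x} : Set G)))`
  have hxpow : ∀ w : ↥(Subgroup.centralizer ({x} : Set G)), w ∈ (Cfsg.pPrimeCore 2 ↥(Subgroup.centralizer ({x} : Set G))) → (x * (w : G)) ^ Nat.card ↥(Cfsg.pPrimeCore 2 ↥(Subgroup.centralizer ({x} : Set G))) = x := by
    intro w hw
    rw [(commute_coe w).mul_pow, ← Subgroup.coe_pow,
      orderOf_dvd_iff_pow_eq_one.1 (Subgroup.orderOf_dvd_natCard (Cfsg.pPrimeCore 2 ↥(Subgroup.centralizer ({x} : Set G))) hw), Subgroup.coe_one, mul_one]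
    have ho : Odd (Nat.card ↥(Cfsg.pPrimeCore 2 ↥(Subgroup.centralizer ({x} : Set G)))) := by rw [Nat.odd_iff, ← Nat.two_dvd_ne_zero]; exact hUodd
    obtain ⟨m, hm⟩ := ho
    rw [hm, pow_succ, pow_mul, pow_two, hxx, one_pow, one_mul]
  have htot : ∑ χ : Cfsg.IrrCharacter G, Su χ * conj (Su χ) = (4 * Nat.card ↥(Cfsg.pPrimeCore 2 ↥(Subgroup.centralizer ({x} : Set G))) ^ 2 : ℕ) := by
    simp only [Su, map_sum, Finset.sum_mul, Finset.mul_sum]
    rw [Finset.sum_comm]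
    simp only [Finset.sum_comm (s := (Finset.univ : Finset (Cfsg.IrrCharacter G))), sum_irr_mul_conj]
    rw [Finset.sum_comm]
    have hrow : ∀ u : ↥(Cfsg.pPrimeCore 2 ↥(Subgroup.centralizer ({x} : Set G))), ∑ u' : ↥(Cfsg.pPrimeCore 2 ↥(Subgroup.centralizer ({x} : Set G))), (if IsConj (x * ((u : ↥(Subgroup.centralizer ({x} : Set G))) : G)) (x * ((u' : ↥(Subgroup.centralizer ({x} : Set G))) : G))
        then (Nat.card (Subgroup.centralizer ({x * ((u : ↥(Subgroup.centralizer ({x} : Set G))) : G)} : Set G)) : ℂ) else 0) =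
        (4 * Nat.card ↥(Cfsg.pPrimeCore 2 ↥(Subgroup.centralizer ({x} : Set G))) : ℕ) := by
      intro u
      set g : ↥(Subgroup.centralizer ({x} : Set G)) := ⟨x, x_mem⟩ * (u : ↥(Subgroup.centralizer ({x} : Set G))) with hg
      have hgval : (g : G) = x * ((u : ↥(Subgroup.centralizer ({x} : Set G))) : G) := rfl
      rw [← Finset.sum_filter, Finset.sum_const, nsmul_eq_mul, ← Nat.cast_mul, Nat.cast_inj, ← hC4,
        ← card_conjugates_mul_centralizer g]
      congr 1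
      · rw [← Fintype.card_subtype, ← Nat.card_eq_fintype_card]
        refine Nat.card_congr (Equiv.ofBijective (fun u' => ⟨⟨x, x_mem⟩ * ((u'.1 : ↥(Cfsg.pPrimeCore 2 ↥(Subgroup.centralizer ({x} : Set G)))) : ↥(Subgroup.centralizer ({x} : Set G))), ?_⟩) ⟨?_, ?_⟩)
        · obtain ⟨c, hc⟩ := isConj_iff.1 u'.2
          have hcx : c * x * c⁻¹ = x := by
            calc c * x * c⁻¹ = c * (x * ((u : ↥(Subgroup.centralizer ({x} : Set G))) : G)) ^ Nat.card ↥(Cfsg.pPrimeCore 2 ↥(Subgroup.centralizer ({x} : Set G))) * c⁻¹ := by rw [hxpow _ u.2]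
              _ = (c * (x * ((u : ↥(Subgroup.centralizer ({x} : Set G))) : G)) * c⁻¹) ^ Nat.card ↥(Cfsg.pPrimeCore 2 ↥(Subgroup.centralizer ({x} : Set G))) := (conj_pow).symm
              _ = x := by rw [hc, hxpow _ u'.1.2]
          exact isConj_iff.2 ⟨⟨c, Subgroup.mem_centralizer_singleton_iff.2 (mul_inv_eq_iff_eq_mul.1 hcx)⟩, Subtype.ext hc⟩
        · intro a b e
          exact Subtype.ext (Subtype.ext (mul_left_cancel (congrArg Subtype.val e)))
        · rintro ⟨y, hy⟩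
          obtain ⟨c, rfl⟩ := isConj_iff.1 hy
          have hn : c * (u : ↥(Subgroup.centralizer ({x} : Set G))) * c⁻¹ ∈ (Cfsg.pPrimeCore 2 ↥(Subgroup.centralizer ({x} : Set G))) := (Cfsg.pPrimeCore_normal 2 ↥(Subgroup.centralizer ({x} : Set G))).conj_mem _ u.2 c
          have hcx : c * (⟨x, x_mem⟩ : ↥(Subgroup.centralizer ({x} : Set G))) * c⁻¹ = ⟨x, x_mem⟩ :=
            mul_inv_eq_iff_eq_mul.2 (Subtype.ext (Subgroup.mem_centralizer_singleton_iff.1 c.2))
          have heq : (⟨x, x_mem⟩ : ↥(Subgroup.centralizer ({x} : Set G))) * (c * (u : ↥(Subgroup.centralizer ({x} : Set G))) * c⁻¹) = c * g * c⁻¹ := by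
            nth_rw 1 [← hcx]
            rw [hg]; group
          refine ⟨⟨⟨_, hn⟩, isConj_iff.2 ⟨(c : G), ?_⟩⟩, Subtype.ext heq⟩
          exact (congrArg Subtype.val heq).symm
      · refine Nat.card_congr
          { toFun := fun c => ⟨⟨c.1, ?_⟩, ?_⟩
            invFun := fun c => ⟨c.1.1, ?_⟩
            left_inv := fun _ => rfl
            right_inv := fun _ => rfl }
        · have hc := Subgroup.mem_centralizer_singleton_iff.1 c.2
          refine Subgroup.mem_centralizer_singleton_iff.2 ?_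
          have h := ((show Commute c.1 (x * ((u : ↥(Subgroup.centralizer ({x} : Set G))) : G)) from hc).pow_right (Nat.card ↥(Cfsg.pPrimeCore 2 ↥(Subgroup.centralizer ({x} : Set G))))).eq
          rwa [hxpow _ u.2] at h
        · exact Subgroup.mem_centralizer_singleton_iff.2 (Subtype.ext (Subgroup.mem_centralizer_singleton_iff.1 c.2))
        · exact Subgroup.mem_centralizer_singleton_iff.2 (congrArg Subtype.val (Subgroup.mem_centralizer_singleton_iff.1 c.2))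
    refine (Finset.sum_congr rfl fun u _ => (by convert hrow u)).trans ?_
    rw [Finset.sum_const, nsmul_eq_mul, Finset.card_univ, ← Nat.card_eq_fintype_card]
    push_cast
    ring
  have hout : ∀ χ, χ ∉ B → Su χ = 0 := by
    have hBtot : ∑ χ ∈ B, Su χ * conj (Su χ) = (4 * Nat.card ↥(Cfsg.pPrimeCore 2 ↥(Subgroup.centralizer ({x} : Set G))) ^ 2 : ℕ) := by
      rw [hBsum, hSB _ (by simp [hBdef]), hSB _ (by simp [hBdef]), hSB _ (by simp [hBdef]), hSB _ (by simp [hBdef]),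
        hval'.1, hval'.2.1, hval'.2.2.1, hval'.2.2.2]
      rcases hε with rfl | rfl <;> (push_cast; simp only [map_mul, map_natCast, map_one, map_neg, mul_one]; ring)
    intro χ hχ
    have hrest : ∑ χ ∈ Finset.univ \ B, Su χ * conj (Su χ) = 0 := by
      rw [Finset.sum_sdiff_eq_sub (Finset.subset_univ B), htot, hBtot, sub_self]
    simp only [Complex.mul_conj] at hrest
    rw [← Complex.ofReal_sum, Complex.ofReal_eq_zero,
      Finset.sum_eq_zero_iff_of_nonneg (fun χ _ => Complex.normSq_nonneg _)] at hrest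
    exact Complex.normSq_eq_zero.1 (hrest χ (Finset.mem_sdiff.2 ⟨Finset.mem_univ χ, hχ⟩))
  -- counting
  have hinv' : ∀ a : G, (a * x * a⁻¹) * (a * x * a⁻¹) = 1 := fun a => by
    calc (a * x * a⁻¹) * (a * x * a⁻¹) = a * (x * x) * a⁻¹ := by group
      _ = 1 := by rw [hxx]; group
  have hne' : ∀ a : G, a * x * a⁻¹ ≠ 1 := fun a h => hx1 (conj_eq_one_iff.1 h)
  have hfib : ∀ y : G, orderOf y = 2 → (Finset.univ.filter fun a : G => a * x * a⁻¹ = y).card = Nat.card ↥(Subgroup.centralizer ({x} : Set G)) := by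
    intro y hy
    obtain ⟨c, hc⟩ := isConj_iff.1 (hone x y hx hy)
    rw [← Fintype.card_subtype, ← Nat.card_eq_fintype_card]
    refine Nat.card_congr
      { toFun := fun a => ⟨c⁻¹ * a.1, ?_⟩
        invFun := fun k => ⟨c * k.1, ?_⟩
        left_inv := fun a => Subtype.ext (mul_inv_cancel_left _ _)
        right_inv := fun k => Subtype.ext (inv_mul_cancel_left _ _) }
    · rw [Subgroup.mem_centralizer_singleton_iff]
      calc c⁻¹ * a.1 * x = c⁻¹ * (a.1 * x * a.1⁻¹) * a.1 := by group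
        _ = c⁻¹ * (c * x * c⁻¹) * a.1 := by rw [a.2, hc]
        _ = _ := by group
    · calc c * k.1 * x * (c * k.1)⁻¹ = c * (k.1 * x) * k.1⁻¹ * c⁻¹ := by group
        _ = c * (x * k.1) * k.1⁻¹ * c⁻¹ := by rw [(commute_coe k).eq]
        _ = c * x * c⁻¹ := by group
        _ = y := hc
  have hiffinv : ∀ a : G, orderOf a = 2 ↔ a ≠ 1 ∧ a * a = 1 := fun a =>
    ⟨fun h => ⟨fun e => by rw [e, orderOf_one] at h; norm_num at h, by rw [← pow_two, ← h, pow_orderOf_eq_one]⟩,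
      fun h => orderOf_eq_prime (by rw [pow_two]; exact h.2) h.1⟩
  set X : Finset G := Finset.univ.filter fun y => y ∈ (P : Subgroup G) ∧ y ≠ 1 ∧ y ≠ x with hX
  have hX2 : X.card = 2 := by
    have hXe : X = (Finset.univ.filter fun y : G => y ∈ (P : Subgroup G)) \ {1, x} := by
      ext y; simp [hX, not_or]
    rw [hXe, Finset.card_sdiff_of_subset, ← Fintype.card_subtype, ← Nat.card_eq_fintype_card,
      show Nat.card {y // y ∈ (P : Subgroup G)} = 4 from hP.card_four, Finset.card_pair (Ne.symm hx1)]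
    intro y hy
    simp only [Finset.mem_insert, Finset.mem_singleton] at hy
    rcases hy with rfl | rfl <;> simp [hxP]
  have hPinv : ∀ y ∈ (P : Subgroup G), y * y = 1 := fun y hy => Cfsg.Agent.Lib.Involutions.KleinSylow.sq_eq_one hP hy
  have hPcomm : ∀ a ∈ (P : Subgroup G), ∀ b ∈ (P : Subgroup G), a * b = b * a := fun a ha b hb => by
    haveI : IsMulCommutative ↥(P : Subgroup G) := IsKleinFour.isMulCommutative
    exact setLike_mul_comm ha hb
  -- the only solutions lie in the Sylow subgroup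
  have hsol : ∀ (u : ↥(Cfsg.pPrimeCore 2 ↥(Subgroup.centralizer ({x} : Set G)))) (i j : G), orderOf i = 2 → orderOf j = 2 → x * ((u : ↥(Subgroup.centralizer ({x} : Set G))) : G) * i * j = 1 →
      u = 1 ∧ i ∈ X ∧ j = i * x := by
    intro u i j hi hj he
    have hii := ((hiffinv i).1 hi).2
    have hjj := ((hiffinv j).1 hj).2
    set g := x * ((u : ↥(Subgroup.centralizer ({x} : Set G))) : G) with hg
    have hgi : g = j * i := by
      calc g = g * i * j * (j⁻¹ * i⁻¹) := by group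
        _ = j * i := by rw [he, one_mul, inv_eq_of_mul_eq_one_right hii, inv_eq_of_mul_eq_one_right hjj]
    have hconjg : i * g * i⁻¹ = g⁻¹ := by
      rw [inv_eq_of_mul_eq_one_right hii, hgi, mul_inv_rev, inv_eq_of_mul_eq_one_right hii, inv_eq_of_mul_eq_one_right hjj]
      calc i * (j * i) * i = i * j * (i * i) := by group
        _ = i * j := by rw [hii, mul_one]
    have hix : i * x * i⁻¹ = x := by
      calc i * x * i⁻¹ = i * g ^ Nat.card ↥(Cfsg.pPrimeCore 2 ↥(Subgroup.centralizer ({x} : Set G))) * i⁻¹ := by rw [hg, hxpow _ u.2]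
        _ = (g⁻¹) ^ Nat.card ↥(Cfsg.pPrimeCore 2 ↥(Subgroup.centralizer ({x} : Set G))) := by rw [← hconjg, conj_pow]
        _ = x := by rw [inv_pow, hg, hxpow _ u.2, inv_eq_of_mul_eq_one_right hxx]
    have hiC : i ∈ (Subgroup.centralizer ({x} : Set G)) := Subgroup.mem_centralizer_singleton_iff.2 (mul_inv_eq_iff_eq_mul.1 hix)
    have hjv : j = g * i := by rw [hgi, mul_assoc, hii, mul_one]
    have hjC : j ∈ (Subgroup.centralizer ({x} : Set G)) := by
      rw [hjv, hg]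
      exact mul_mem (mul_mem x_mem (u : ↥(Subgroup.centralizer ({x} : Set G))).2) hiC
    have hiP := hinv i hiC hi
    have hjP := hinv j hjC hj
    have huP : ((u : ↥(Subgroup.centralizer ({x} : Set G))) : G) ∈ (P : Subgroup G) := by
      have : ((u : ↥(Subgroup.centralizer ({x} : Set G))) : G) = x⁻¹ * (j * i) := by rw [← hgi, hg]; group
      rw [this]; exact mul_mem (inv_mem hxP) (mul_mem hjP hiP)
    have hu1 : u = 1 := by
      have h1 := odd_orderOf (u : ↥(Subgroup.centralizer ({x} : Set G))) u.2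
      have h2 : orderOf ((u : ↥(Subgroup.centralizer ({x} : Set G))) : G) ∣ 2 := orderOf_dvd_of_pow_eq_one (by rw [pow_two]; exact hPinv _ huP)
      exact Subtype.ext (Subtype.ext (orderOf_eq_one_iff.1 (Nat.eq_one_of_dvd_coprimes
        (Nat.coprime_two_left.2 h1) h2 dvd_rfl)))
    have hgx : g = x := by rw [hg, hu1]; simp
    refine ⟨hu1, Finset.mem_filter.2 ⟨Finset.mem_univ i, hiP, ((hiffinv i).1 hi).1, fun e => ?_⟩, ?_⟩
    · rw [hgx, e] at hjv
      rw [hjv, hxx] at hj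
      simp at hj
    · rw [hjv, hgx, hPcomm _ hxP _ hiP]
  have hcount : ∑ u : ↥(Cfsg.pPrimeCore 2 ↥(Subgroup.centralizer ({x} : Set G))), ∑ a : G, ∑ b : G,
      (if x * ((u : ↥(Subgroup.centralizer ({x} : Set G))) : G) * (a * x * a⁻¹) * (b * x * b⁻¹) = 1 then (1 : ℂ) else 0) =
        ((2 * Nat.card ↥(Subgroup.centralizer ({x} : Set G)) ^ 2 : ℕ) : ℂ) := by
    have hinner : ∀ (u : ↥(Cfsg.pPrimeCore 2 ↥(Subgroup.centralizer ({x} : Set G)))) (a : G), ∑ b : G,
        (if x * ((u : ↥(Subgroup.centralizer ({x} : Set G))) : G) * (a * x * a⁻¹) * (b * x * b⁻¹) = 1 then (1 : ℂ) else 0) =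
        if u = 1 ∧ a * x * a⁻¹ ∈ X then (Nat.card ↥(Subgroup.centralizer ({x} : Set G)) : ℂ) else 0 := by
      intro u a
      rw [Finset.sum_boole]
      by_cases hm : u = 1 ∧ a * x * a⁻¹ ∈ X
      · rw [if_pos hm]
        obtain ⟨hu1, hmX⟩ := hm
        obtain ⟨-, hiP, hi1, hix⟩ := Finset.mem_filter.1 hmX
        have hj2 : orderOf (a * x * a⁻¹ * x) = 2 := (hiffinv _).2
          ⟨fun e => hix ((eq_inv_of_mul_eq_one_left e).trans (inv_eq_of_mul_eq_one_right hxx)), hPinv _ (mul_mem hiP hxP)⟩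
        rw [← hfib _ hj2]
        congr 2
        ext b
        simp only [Finset.mem_filter, Finset.mem_univ, true_and]
        constructor
        · intro h
          exact (hsol u _ _ ((hiffinv _).2 ⟨hne' a, hinv' a⟩) ((hiffinv _).2 ⟨hne' b, hinv' b⟩) h).2.2
        · intro h
          rw [h, hu1]
          simp only [OneMemClass.coe_one, mul_one]
          rw [show x * (a * x * a⁻¹) * (a * x * a⁻¹ * x) = x * ((a * x * a⁻¹) * (a * x * a⁻¹)) * x by group,
            hinv', mul_one, hxx]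
      · rw [if_neg hm, Nat.cast_eq_zero, Finset.card_eq_zero, Finset.filter_eq_empty_iff]
        intro b _ hb
        obtain ⟨h1, h2, -⟩ := hsol u _ _ ((hiffinv _).2 ⟨hne' a, hinv' a⟩) ((hiffinv _).2 ⟨hne' b, hinv' b⟩) hb
        exact hm ⟨h1, h2⟩
    simp only [hinner, ite_and]
    rw [Finset.sum_eq_single (1 : ↥(Cfsg.pPrimeCore 2 ↥(Subgroup.centralizer ({x} : Set G)))) (fun u _ h => by simp [h]) (fun h => absurd (Finset.mem_univ _) h)]
    simp only [if_true]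
    rw [← Finset.sum_filter, Finset.sum_const, nsmul_eq_mul]
    have h2 : (Finset.univ.filter fun a : G => a * x * a⁻¹ ∈ X).card = 2 * Nat.card ↥(Subgroup.centralizer ({x} : Set G)) := by
      rw [Finset.card_eq_sum_card_fiberwise (s := Finset.univ.filter fun a : G => a * x * a⁻¹ ∈ X)
        (f := fun a : G => a * x * a⁻¹) (t := X) (fun a ha => (Finset.mem_filter.1 ha).2)]
      rw [Finset.sum_congr rfl fun y hy => ?_, Finset.sum_const, hX2, smul_eq_mul]
      have hy' := (Finset.mem_filter.1 hy).2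
      rw [← hfib y ((hiffinv y).2 ⟨hy'.2.1, hPinv y hy'.1⟩)]
      congr 1
      ext a
      simp only [Finset.mem_filter, Finset.mem_univ, true_and]
      exact ⟨fun h => h.2, fun h => ⟨h ▸ hy, h⟩⟩
    rw [h2]; push_cast; ring
  have key : (Nat.card G : ℂ) * ∑ χ : Cfsg.IrrCharacter G, (χ : G → ℂ) x ^ 2 * Su χ / (χ : G → ℂ) 1 =
      ((2 * Nat.card ↥(Subgroup.centralizer ({x} : Set G)) ^ 2 : ℕ) : ℂ) := by
    have hG : (Nat.card G : ℂ) ≠ 0 := Nat.cast_ne_zero.2 Nat.card_pos.ne'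
    have hone' : ∀ (χ : Cfsg.IrrCharacter G) (g : G), ∑ a : G, ∑ b : G, (χ : G → ℂ) (g * (a * x * a⁻¹) * (b * x * b⁻¹)) =
        (Nat.card G : ℂ) ^ 2 * (χ : G → ℂ) g * (χ : G → ℂ) x ^ 2 / (χ : G → ℂ) 1 ^ 2 := by
      intro χ g
      have h1 := apply_one_ne_zero χ
      simp only [Cfsg.Agent.Lib.H80.ClassMult.sum_apply_mul_conj, ← Finset.sum_div, ← Finset.sum_mul,
        ← Finset.mul_sum]
      field_simp
    have hsd : ∀ h : G, (Nat.card G : ℂ) * (if h = 1 then (1 : ℂ) else 0) =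
        ∑ χ : Cfsg.IrrCharacter G, (χ : G → ℂ) 1 * (χ : G → ℂ) h := fun h => by
      rw [sum_degree_mul_apply]; split_ifs <;> simp
    apply mul_left_cancel₀ hG
    rw [← hcount]
    simp only [Finset.mul_sum, hsd, Su, Finset.sum_div]
    conv_rhs => enter [2, u, 2, a]; rw [Finset.sum_comm]
    conv_rhs => enter [2, u]; rw [Finset.sum_comm]
    rw [Finset.sum_comm]
    refine Finset.sum_congr rfl fun u _ => Finset.sum_congr rfl fun χ _ => ?_
    simp only [← Finset.mul_sum, hone']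
    have h1 := apply_one_ne_zero χ
    field_simp
  rw [← Finset.sum_subset (Finset.subset_univ B) (fun χ _ hχ => by rw [hout χ hχ]; simp), hBsum,
    hSB _ (by simp [hBdef]), hSB _ (by simp [hBdef]), hSB _ (by simp [hBdef]), hSB _ (by simp [hBdef]),
    hval'.1, hval'.2.1, hval'.2.2.1, hval'.2.2.2, hz₂, hz₃, hz₄, oneChar_apply, hC4] at key
  have hU0 : (Nat.card ↥(Cfsg.pPrimeCore 2 ↥(Subgroup.centralizer ({x} : Set G))) : ℂ) ≠ 0 := Nat.cast_ne_zero.2 Nat.card_pos.ne'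
  have hε2 : (ε : ℂ) ^ 2 = 1 := by rcases hε with rfl | rfl <;> norm_num
  have hfin : (Nat.card G : ℂ) * (1 + 1 / (f₂ : ℂ) + (ε : ℂ) / f₃ - 1 / f₄) = 32 * (Nat.card ↥(Cfsg.pPrimeCore 2 ↥(Subgroup.centralizer ({x} : Set G))) : ℂ) := by
    apply mul_left_cancel₀ hU0
    rw [hε2] at key
    push_cast at key
    linear_combination key
  have hfin' : (((Nat.card G : ℚ) * (1 + 1 / f₂ + ε / f₃ - 1 / f₄) : ℚ) : ℂ) = ((32 * Nat.card ↥(Cfsg.pPrimeCore 2 ↥(Subgroup.centralizer ({x} : Set G))) : ℚ) : ℂ) := by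
    push_cast
    exact hfin
  exact_mod_cast hfin'

end Cfsg.Agent.Lib.DihedralCentralizer.FourGroup
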