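/-
Groups with an involution centraliser dihedral of order 8, modulo the recognition of `A₆`.
-/
import Cfsg.Agent.Lib.DihedralCentralizer.Klein
import Cfsg.Agent.Lib.SmallGroups.RecogSmall
import Cfsg.Agent.Lib.SmallGroups.Order24
import Cfsg.Agent.Lib.Linear.SmallIso.PSL7
import Cfsg.Agent.Lib.Alternating.Aut
import Cfsg.Agent.Lib.Cores.Pi

set_option autoImplicit false

namespace Cfsg.Agent.Lib.DihedralCentralizer

universe u

variable {G : Type u} [Group G] [Finite G] {z : G}

open scoped commutatorElement in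
/-- A simple non-abelian group has only the trivial linear character. -/
theorem eq_oneChar_of_simple [IsSimpleGroup G] {a b : G} (hab : a * b ≠ b * a)
    (χ : Cfsg.IrrCharacter G) (hχ : (χ : G → ℂ) 1 = 1) :
    χ = Cfsg.Agent.Lib.Characters.Basic.oneChar G := by
  have hp : commutator G = ⊤ := by
    refine (IsSimpleGroup.eq_bot_or_eq_top_of_normal (commutator G) inferInstance).resolve_left fun h => hab ?_
    have : ⁅a, b⁆ ∈ commutator G := Subgroup.commutator_mem_commutator (Subgroup.mem_top a) (Subgroup.mem_top b)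
    rw [h, Subgroup.mem_bot] at this
    exact commutatorElement_eq_one_iff_mul_comm.1 this
  exact Subtype.ext (funext fun g =>
    Cfsg.Agent.Lib.H80.LinearChar.eq_one_of_mem_commutator χ hχ (hp ▸ Subgroup.mem_top g))

/-- Without subgroups of index two the group is simple of order 168 or 360. -/
theorem simple_order (hz : orderOf z = 2) (e : ↥(Subgroup.centralizer ({z} : Set G)) ≃* DihedralGroup 4)
    (hG : ∀ H : Subgroup G, H.index ≠ 2) :
    IsSimpleGroup G ∧ (Nat.card G = 168 ∨ Nat.card G = 360) := by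
  have hs := isSimpleGroup hG hz e
  refine ⟨hs, card_eq e hz hG ?_⟩
  intro χ hχ
  refine eq_oneChar_of_simple (a := rot e) (b := (e.symm (DihedralGroup.sr 0) : G)) ?_ χ hχ
  intro h
  have h' : e.symm (DihedralGroup.r 1) * e.symm (DihedralGroup.sr 0) = e.symm (DihedralGroup.sr 0) * e.symm (DihedralGroup.r 1) :=
    Subtype.ext h
  rw [← map_mul, ← map_mul] at h'
  exact absurd (e.symm.injective h') (by decide)

set_option synthInstance.maxSize 4000 in
theorem key_three : ∀ a b : DihedralGroup 4, a * a = 1 → b * b = 1 → a ≠ 1 → b ≠ 1 → b ≠ DihedralGroup.r 2 →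
    a * b = b * a → a = DihedralGroup.r 2 ∨ a = b ∨ a = b * DihedralGroup.r 2 := by decide

set_option synthInstance.maxSize 4000 in
theorem key_four : ∀ a b c : DihedralGroup 4, b * b = 1 → b ≠ 1 → b ≠ DihedralGroup.r 2 →
    c = DihedralGroup.r 2 → a * b = b * a → a = 1 ∨ a = c ∨ a = b ∨ a = b * c := by decide

theorem exists_zmod_field (p : ℕ) [hp : Fact p.Prime] :
    ∃ (F : Type) (_ : Field F) (_ : Fintype F), Fintype.card F = p :=
  ⟨ZMod p, inferInstance, inferInstance, ZMod.card p⟩

/-- Simple groups of order 168 are `SL₃(2)`. -/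
theorem equiv_SL_three [IsSimpleGroup G] (h : Nat.card G = 168) :
    Nonempty (G ≃* Matrix.SpecialLinearGroup (Fin 3) (ZMod 2)) := by
  haveI : Fact (Nat.Prime 2) := ⟨Nat.prime_two⟩
  obtain ⟨e₁⟩ := Cfsg.Agent.Lib.SmallGroups.RecogSmall.psl_seven h (F := ZMod 7) (ZMod.card 7)
  obtain ⟨e₂⟩ := Cfsg.Agent.Lib.Linear.SmallIso.nonempty_psl_two_seven (F := ZMod 7) (K := ZMod 2)
    (ZMod.card 7) (ZMod.card 2)
  have hc : Nat.card (Subgroup.center (Matrix.SpecialLinearGroup (Fin 3) (ZMod 2))) = 1 := by
    rw [Cfsg.Agent.Lib.Linear.card_center_SL, Fintype.card_fin, Nat.card_zmod]; rfl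
  have hker : (QuotientGroup.mk' (Subgroup.center (Matrix.SpecialLinearGroup (Fin 3) (ZMod 2)))).ker = ⊥ := by
    rw [QuotientGroup.ker_mk', Subgroup.eq_bot_of_card_eq _ hc]
  exact ⟨(e₁.trans e₂).trans (MulEquiv.ofBijective _
    ⟨(MonoidHom.ker_eq_bot_iff _).1 hker, QuotientGroup.mk'_surjective _⟩).symm⟩

/-- An odd normal complement of the centraliser gives the first alternative. -/
theorem sup_eq_top_of_odd (e : ↥(Subgroup.centralizer ({z} : Set G)) ≃* DihedralGroup 4)
    {M : Subgroup G} [M.Normal] (hM : Odd (Nat.card M)) (hi : M.index = 8) :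
    Subgroup.centralizer ({z} : Set G) ⊔ Cfsg.oddCore G = ⊤ := by
  have hle := Cfsg.Agent.Lib.Cores.le_oddCore hM
  have hsup : Subgroup.centralizer ({z} : Set G) ⊔ M = ⊤ := by
    refine Subgroup.eq_top_of_card_eq _ (Nat.dvd_antisymm (Subgroup.card_subgroup_dvd_card _) ?_)
    rw [← Subgroup.card_mul_index M, hi]
    refine Nat.Coprime.mul_dvd_of_dvd_of_dvd ?_ (Subgroup.card_dvd_of_le le_sup_right) ?_
    · exact (Nat.Coprime.pow_left 3 (Nat.coprime_two_left.2 hM)).symm
    · rw [← card_centralizer e]; exact Subgroup.card_dvd_of_le le_sup_left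
  exact top_le_iff.1 (hsup ▸ sup_le_sup_left hle _)

/-- The structure when there is a subgroup of index two. -/
theorem of_index_two (hz : orderOf z = 2) (e : ↥(Subgroup.centralizer ({z} : Set G)) ≃* DihedralGroup 4)
    (H : Subgroup G) (hH : H.index = 2) :
    Subgroup.centralizer ({z} : Set G) ⊔ Cfsg.oddCore G = ⊤ ∨ Nonempty (G ≃* Equiv.Perm (Fin 4)) ∨
      Nonempty (G ≃* Equiv.Perm (Fin 5)) := by
  classical
  haveI : Fact (Nat.Prime 2) := ⟨Nat.prime_two⟩
  haveI hHn : H.Normal := Subgroup.normal_of_index_eq_two hH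
  set C := Subgroup.centralizer ({z} : Set G) with hCdef
  obtain ⟨S, hS⟩ := exists_sylow hz e
  have hz1 : z ≠ 1 := fun h => by rw [h, orderOf_one] at hz; norm_num at hz
  have hzC : z ∈ C := Subgroup.mem_centralizer_singleton_iff.2 rfl
  have hzH : z ∈ H := rot_sq e hz ▸ Subgroup.mul_self_mem_of_index_two hH (rot e)
  set zH : ↥H := ⟨z, hzH⟩ with hzHdef
  have hzHo : orderOf zH = 2 := by rw [← Subgroup.orderOf_coe]; exact hz
  have h8 : Nat.card ↥C = 8 := card_centralizer e
  -- the Sylow subgroup of `H`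
  have hP4 : Nat.card ↥(C.subgroupOf H) = 4 := by
    have h1 : H.relIndex C ∣ 2 := hH ▸ Subgroup.relIndex_dvd_index_of_normal H C
    have h2 : H.relIndex C ≠ 1 := by
      intro h
      rw [Subgroup.relIndex_eq_one] at h
      have hd : 8 ∣ Nat.card ↥H := h8 ▸ Subgroup.card_dvd_of_le h
      have hG16 : ¬ 16 ∣ Nat.card G := fun h16 => by
        have := S.card_eq_multiplicity
        rw [show Nat.card ↥(S : Subgroup G) = 2 ^ 3 by rw [hS, h8]; rfl] at this
        have h3 := Nat.pow_right_injective (le_refl 2) this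
        have : 4 ≤ (Nat.card G).factorization 2 :=
          (Nat.Prime.pow_dvd_iff_le_factorization Nat.prime_two Nat.card_pos.ne').1 h16
        omega
      exact hG16 (by rw [← Subgroup.card_mul_index H, hH]; exact Nat.mul_dvd_mul_right hd 2)
    have h3 : H.relIndex C = 2 := ((Nat.dvd_prime Nat.prime_two).1 h1).resolve_left h2
    have h4 := Subgroup.card_mul_index (H.subgroupOf C)
    rw [show (H.subgroupOf C).index = 2 from h3, h8] at h4
    have h5 : Nat.card ↥(C.subgroupOf H) = Nat.card ↥(H.subgroupOf C) :=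
      Nat.card_congr
        { toFun := fun x => ⟨⟨x.1.1, x.2⟩, x.1.2⟩
          invFun := fun x => ⟨⟨x.1.1, x.2⟩, x.1.2⟩
          left_inv := fun x => rfl
          right_inv := fun x => rfl }
    omega
  have hGH : Nat.card G = Nat.card ↥H * 2 := by rw [← Subgroup.card_mul_index H, hH]
  have hPsyl : (Nat.card ↥H).factorization 2 = 2 := by
    have h3 := S.card_eq_multiplicity
    rw [show Nat.card ↥(S : Subgroup G) = 2 ^ 3 by rw [hS, h8]; rfl] at h3
    have := Nat.pow_right_injective (le_refl 2) h3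
    rw [hGH, Nat.factorization_mul Nat.card_pos.ne' two_ne_zero, Finsupp.add_apply,
      Nat.Prime.factorization_self Nat.prime_two] at this
    omega
  obtain ⟨P, hP⟩ : ∃ P : Sylow 2 ↥H, (P : Subgroup ↥H) = C.subgroupOf H :=
    ⟨Sylow.ofCard (C.subgroupOf H) (by rw [hP4, hPsyl]; rfl), rfl⟩
  have hCH : Subgroup.centralizer ({zH} : Set ↥H) = (P : Subgroup ↥H) := by
    rw [hP]
    ext x
    rw [Subgroup.mem_centralizer_singleton_iff, Subgroup.mem_subgroupOf, hCdef, Subgroup.mem_centralizer_singleton_iff]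
    exact ⟨fun h => congrArg Subtype.val h, fun h => Subtype.ext h⟩
  have hcompl : Cfsg.HasNormalPComplement 2 ↥H → C ⊔ Cfsg.oddCore G = ⊤ := by
    rintro ⟨Q, L, hL, hLc⟩
    have hLodd : Odd (Nat.card ↥L) := by
      rw [Nat.odd_iff, ← Nat.two_dvd_ne_zero, ← hLc.index_eq_card]
      exact Q.not_dvd_index
    have hQ4 : Nat.card (↥H ⧸ L) = 4 := by
      rw [← Subgroup.index_eq_card, hLc.symm.index_eq_card, Nat.card_congr (Q.equiv P).toEquiv, hP, hP4]
    have hmem : ∀ y : ↥H, Odd (orderOf y) → y ∈ L := by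
      intro y hy
      haveI := hL
      have hq : orderOf (QuotientGroup.mk' L y) ∣ 4 := hQ4 ▸ orderOf_dvd_natCard _
      have h1 : orderOf (QuotientGroup.mk' L y) ∣ orderOf y := orderOf_map_dvd _ y
      have h3 := Nat.eq_one_of_dvd_coprimes (show Nat.Coprime 4 (orderOf y) from
        (Nat.Coprime.pow_left 2 (Nat.coprime_two_left.2 hy))) hq h1
      exact (QuotientGroup.eq_one_iff y).1 (orderOf_eq_one_iff.1 h3)
    haveI : (L.map H.subtype).Normal := by
      refine ⟨fun x hx g => ?_⟩
      obtain ⟨l, hl, rfl⟩ := hx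
      refine ⟨⟨g * (l : G) * g⁻¹, hHn.conj_mem _ l.2 g⟩, hmem _ ?_, rfl⟩
      rw [← Subgroup.orderOf_coe]
      show Odd (orderOf (g * (l : G) * g⁻¹))
      rw [← MulAut.conj_apply, MulEquiv.orderOf_eq, Subgroup.orderOf_coe]
      exact hLodd.of_dvd_nat (Subgroup.orderOf_dvd_natCard L hl)
    refine sup_eq_top_of_odd e (M := L.map H.subtype) ?_ ?_
    · rwa [Subgroup.card_map_of_injective H.subtype_injective]
    · rw [Subgroup.index_map_subtype, hH, Subgroup.index_eq_card, hQ4]
  by_cases hnc : Cfsg.HasNormalPComplement 2 ↥H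
  · exact Or.inl (hcompl hnc)
  -- the Sylow subgroup is a four-group
  have hcard : Nat.card ↥(P : Subgroup ↥H) = 4 := by rw [hP, hP4]
  have hncyc : ¬ IsCyclic ↥(P : Subgroup ↥H) := by
    intro hcyc
    have h2 : 2 ∣ Nat.card ↥H := by
      rw [← hzHo]; exact orderOf_dvd_natCard _
    exact hnc ⟨P, _, MonoidHom.normal_ker _, IsCyclic.isComplement' ((Nat.minFac_eq_two_iff _).2 h2) hcyc⟩
  have hKF : IsKleinFour ↥(P : Subgroup ↥H) := by
    refine ⟨hcard, ?_⟩
    refine Nat.dvd_antisymm (Monoid.exponent_dvd_of_forall_pow_eq_one fun x => ?_) ?_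
    · have h4 : orderOf x ∣ 2 ^ 2 := by
        have := orderOf_dvd_natCard x
        rwa [hcard] at this
      obtain ⟨i, hi, hx⟩ := (Nat.dvd_prime_pow Nat.prime_two).1 h4
      interval_cases i
      · have h1 : x = 1 := orderOf_eq_one_iff.1 (by simpa using hx)
        rw [h1, one_pow]
      · have h1 := pow_orderOf_eq_one x
        rwa [show orderOf x = 2 by simpa using hx] at h1
      · exact absurd (isCyclic_of_orderOf_eq_card x (by rw [hcard, hx]; rfl)) hncyc
    · have hzP : zH ∈ (P : Subgroup ↥H) := hCH ▸ Subgroup.mem_centralizer_singleton_iff.2 rfl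
      have := Monoid.order_dvd_exponent (⟨zH, hzP⟩ : ↥(P : Subgroup ↥H))
      rwa [Subgroup.orderOf_mk, hzHo] at this
  have hone : ∀ u : ↥H, orderOf u = 2 → IsConj zH u := by
    rcases Cfsg.Agent.Lib.Involutions.KleinSylow.card_classes hKF with h | h
    · intro u hu
      obtain ⟨D, hD⟩ := Nat.card_eq_one_iff_exists.1 h
      have h1 := hD ⟨ConjClasses.mk zH, zH, hzHo, rfl⟩
      have h2 := hD ⟨ConjClasses.mk u, u, hu, rfl⟩
      exact ConjClasses.mk_eq_mk_iff_isConj.1 (congrArg Subtype.val (h1.trans h2.symm))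
    · exfalso
      obtain ⟨N, hN, hcomp⟩ := (Cfsg.Agent.Lib.Involutions.KleinSylow.card_classes_eq_three_iff hKF).1 h
      exact hnc ⟨P, N, hN, hcomp⟩
  -- every involution of `H` inverts every odd normal subgroup
  have hO : ∀ M : Subgroup ↥H, M.Normal → Odd (Nat.card M) → M = ⊥ := by
    intro M hM hMo
    have hzinv : ∀ u : ↥H, orderOf u = 2 → ∀ x ∈ M, u * x * u = x⁻¹ := by
      intro u hu
      obtain ⟨g, rfl⟩ := isConj_iff.1 (hone u hu)
      have hu2 : (g * zH * g⁻¹) * (g * zH * g⁻¹) = 1 := by rw [← pow_two, ← hu, pow_orderOf_eq_one]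
      refine Cfsg.Agent.Lib.SylowInter.CharLocal.inverts_of_fpf hMo hu2 (fun x hx => ?_) ?_
      · have h := hM.conj_mem x hx (g * zH * g⁻¹)
        rwa [inv_eq_of_mul_eq_one_right hu2] at h
      · intro x hx h
        have hc : g⁻¹ * x * g ∈ Subgroup.centralizer ({zH} : Set ↥H) := by
          rw [Subgroup.mem_centralizer_singleton_iff]
          calc g⁻¹ * x * g * zH = g⁻¹ * (x * (g * zH * g⁻¹)) * g := by group
            _ = g⁻¹ * ((g * zH * g⁻¹) * x) * g := by rw [h]
            _ = _ := by group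
        rw [hCH] at hc
        have hxM : g⁻¹ * x * g ∈ M := by simpa using hM.conj_mem x hx g⁻¹
        have h1 := Nat.eq_one_of_dvd_coprimes (show Nat.Coprime 4 (Nat.card M) from
          (Nat.Coprime.pow_left 2 (Nat.coprime_two_left.2 hMo)))
          (hcard ▸ Subgroup.orderOf_dvd_natCard _ hc) (Subgroup.orderOf_dvd_natCard M hxM)
        rw [orderOf_eq_one_iff] at h1
        calc x = g * (g⁻¹ * x * g) * g⁻¹ := by group
          _ = 1 := by rw [h1]; group
    rw [Subgroup.eq_bot_iff_forall]
    intro x hx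
    have hzP : zH ∈ (P : Subgroup ↥H) := hCH ▸ Subgroup.mem_centralizer_singleton_iff.2 rfl
    obtain ⟨v, hv⟩ : ∃ v : ↥(P : Subgroup ↥H), v ≠ 1 ∧ v ≠ ⟨zH, hzP⟩ := by
      by_contra hcon
      push_neg at hcon
      have hle : Nat.card ↥(P : Subgroup ↥H) ≤ 2 := by
        have hs : Function.Surjective (fun b : Bool => if b then (⟨zH, hzP⟩ : ↥(P : Subgroup ↥H)) else 1) := by
          intro v
          by_cases h : v = 1
          · exact ⟨false, by simp [h]⟩
          · exact ⟨true, by simp [hcon v h]⟩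
        simpa using Nat.card_le_card_of_surjective _ hs
      omega
    have hv2 : orderOf (v : ↥H) = 2 :=
      Cfsg.Agent.Lib.Involutions.KleinSylow.orderOf_mem hKF v.2 (fun h => hv.1 (Subtype.ext h))
    have hvz : orderOf ((v : ↥H) * zH) = 2 :=
      Cfsg.Agent.Lib.Involutions.KleinSylow.orderOf_mem hKF ((P : Subgroup ↥H).mul_mem v.2 hzP) fun h => hv.2 (Subtype.ext (by
        rw [eq_inv_of_mul_eq_one_left h]
        exact inv_eq_of_mul_eq_one_right (by rw [← pow_two, ← hzHo, pow_orderOf_eq_one])))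
    have h1 := hzinv _ hv2 x hx
    have h2 := hzinv _ hvz x hx
    have h3 := hzinv _ hzHo x hx
    have hzz : zH * zH = 1 := by rw [← pow_two, ← hzHo, pow_orderOf_eq_one]
    have hcomm : (v : ↥H) * zH = zH * v := by
      exact Subgroup.mem_centralizer_singleton_iff.1 ((SetLike.ext_iff.1 hCH _).2 v.2)
    have hsq : x = x⁻¹ := by
      calc x = (x⁻¹)⁻¹ := (inv_inv x).symm
        _ = (v : ↥H) * x⁻¹ * v := (hzinv _ hv2 _ (M.inv_mem hx)).symm
        _ = v * (zH * x * zH) * v := by rw [h3]
        _ = (v * zH) * x * (zH * v) := by group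
        _ = (v * zH) * x * (v * zH) := by rw [hcomm]
        _ = x⁻¹ := h2
    have hxx : orderOf x ∣ 2 := orderOf_dvd_of_pow_eq_one (by
      rw [pow_two]
      nth_rw 1 [hsq]
      exact inv_mul_cancel x)
    exact orderOf_eq_one_iff.1 (Nat.eq_one_of_dvd_coprimes (Nat.coprime_two_left.2 hMo) hxx
      (Subgroup.orderOf_dvd_natCard M hx))
  right
  rcases Klein.cases P hKF hzHo hCH hO with h | h | hψ
  · exact absurd h hnc
  · left
    -- `G` has order 24
    have hH12 : Nat.card ↥H = 12 := by
      have hcl : Nat.card {u : ↥H // IsConj zH u} = 3 := by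
        rw [← Cfsg.Agent.Lib.Involutions.KleinSylow.card_ne_one hKF]
        refine Nat.card_congr
          { toFun := fun u => ⟨⟨u.1, ?_⟩, ?_⟩
            invFun := fun a => ⟨a.1.1, hone _ (Cfsg.Agent.Lib.Involutions.KleinSylow.orderOf_mem hKF a.1.2 fun h1 => a.2 (Subtype.ext h1))⟩
            left_inv := fun u => rfl
            right_inv := fun a => rfl }
        · obtain ⟨g, hg⟩ := isConj_iff.1 u.2
          exact hg ▸ h.conj_mem _ (hCH ▸ Subgroup.mem_centralizer_singleton_iff.2 rfl) g
        · intro h1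
          obtain ⟨g, hg⟩ := isConj_iff.1 u.2
          have h1' : u.1 = 1 := congrArg Subtype.val h1
          rw [h1', conj_eq_one_iff] at hg
          exact hz1 (congrArg Subtype.val hg)
      have := Cfsg.Agent.Lib.Characters.Complete.card_conjugates_mul_centralizer zH
      rw [hcl, hCH, hcard] at this
      exact this.symm
    refine Cfsg.Agent.Lib.SmallGroups.Order24.mulEquiv_perm_four (by rw [hGH, hH12]) fun g hg => ?_
    -- an element of order six
    have h2g : orderOf (g ^ 2) = 3 := by rw [orderOf_pow' _ two_ne_zero, hg]; rfl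
    have h3g : orderOf (g ^ 3) = 2 := by rw [orderOf_pow' _ (by norm_num), hg]; rfl
    have hsq : g ^ 2 ∈ H := pow_two g ▸ Subgroup.mul_self_mem_of_index_two hH g
    -- a conjugate of `g ^ 3` lies in `C(z)`
    obtain ⟨Q, hQ⟩ := (IsPGroup.of_card (p := 2) (G := ↥(Subgroup.zpowers (g ^ 3))) (n := 1)
      (by rw [Nat.card_zpowers, h3g]; rfl)).exists_le_sylow
    obtain ⟨k, hk⟩ := MulAction.exists_smul_eq G Q S
    set u := k * g ^ 3 * k⁻¹ with hu
    set y := k * g ^ 2 * k⁻¹ with hy
    have huC : u ∈ C := by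
      show u ∈ Subgroup.centralizer ({z} : Set G)
      rw [← hS, ← hk, Sylow.coe_subgroup_smul]
      exact ⟨g ^ 3, hQ (Subgroup.mem_zpowers _), rfl⟩
    have hyH : y ∈ H := hHn.conj_mem _ hsq k
    have hy3 : orderOf y = 3 := by rw [hy, ← MulAut.conj_apply, MulEquiv.orderOf_eq, h2g]
    have huy : u * y = y * u := by
      rw [hu, hy]
      calc k * g ^ 3 * k⁻¹ * (k * g ^ 2 * k⁻¹) = k * (g ^ 3 * g ^ 2) * k⁻¹ := by group
        _ = k * (g ^ 2 * g ^ 3) * k⁻¹ := by rw [← pow_add, ← pow_add, add_comm]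
        _ = _ := by group
    -- `y` cyclically permutes the involutions of the four-group, and `u` commutes with `z`
    set w := y * z * y⁻¹ with hw
    have hwP : (⟨w, hHn.conj_mem _ hzH y⟩ : ↥H) ∈ (P : Subgroup ↥H) :=
      h.conj_mem zH (hCH ▸ Subgroup.mem_centralizer_singleton_iff.2 rfl) ⟨y, hyH⟩
    have hwC : w ∈ C := by
      rw [hP] at hwP; exact hwP
    have hwz : w ≠ z := by
      intro he
      have hyC : y ∈ C := Subgroup.mem_centralizer_singleton_iff.2 (mul_inv_eq_iff_eq_mul.1 he)
      have := Subgroup.orderOf_dvd_natCard C hyC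
      rw [hy3, h8] at this
      norm_num at this
    have huz := Subgroup.mem_centralizer_singleton_iff.1 huC
    have huw : u * w = w * u := by
      rw [hw]
      have huyi : u * y⁻¹ = y⁻¹ * u := (Commute.inv_right huy).eq
      calc u * (y * z * y⁻¹) = (u * y) * z * y⁻¹ := by group
        _ = y * (u * z) * y⁻¹ := by rw [huy]; group
        _ = y * (z * u) * y⁻¹ := by rw [huz]
        _ = y * z * (u * y⁻¹) := by group
        _ = _ := by rw [huyi]; group
    -- `u`, `z`, `w` pairwise commuting involutions in a dihedral group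
    have hu2 : u * u = 1 := by
      rw [hu, show k * g ^ 3 * k⁻¹ * (k * g ^ 3 * k⁻¹) = k * (g ^ 6) * k⁻¹ by group, ← hg, pow_orderOf_eq_one]
      group
    have hu1 : u ≠ 1 := by
      intro h1
      rw [hu, conj_eq_one_iff] at h1
      rw [h1, orderOf_one] at h3g; norm_num at h3g
    have key := key_three
    have hw2 : w * w = 1 := by
      rw [hw, show y * z * y⁻¹ * (y * z * y⁻¹) = y * (z * z) * y⁻¹ by group, ← pow_two z, ← hz, pow_orderOf_eq_one]
      group
    have hw1 : w ≠ 1 := fun h1 => hz1 (conj_eq_one_iff.1 h1)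
    have hez := map_self hz e hzC
    have huH : u ∈ H := by
      rcases key (e ⟨u, huC⟩) (e ⟨w, hwC⟩) (by rw [← map_mul, MulEquiv.map_eq_one_iff]; exact Subtype.ext hu2)
        (by rw [← map_mul, MulEquiv.map_eq_one_iff]; exact Subtype.ext hw2)
        (fun h1 => hu1 (congrArg Subtype.val ((MulEquiv.map_eq_one_iff e).1 h1)))
        (fun h1 => hw1 (congrArg Subtype.val ((MulEquiv.map_eq_one_iff e).1 h1)))
        (fun h1 => hwz (congrArg Subtype.val (e.injective (h1.trans hez.symm))))
        (by rw [← map_mul, ← map_mul]; exact congrArg e (Subtype.ext huw)) with h1 | h1 | h1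
      · have : u = z := congrArg Subtype.val (e.injective (h1.trans hez.symm))
        rw [this]; exact hzH
      · have : u = w := congrArg Subtype.val (e.injective h1)
        rw [this]; exact hHn.conj_mem _ hzH y
      · have : u = w * z := congrArg Subtype.val (e.injective (h1.trans (by rw [← hez, ← map_mul])))
        rw [this]; exact H.mul_mem (hHn.conj_mem _ hzH y) hzH
    -- `u` is an involution of `H` centralised by `y`
    obtain ⟨c, hc⟩ := isConj_iff.1 (hone ⟨u, huH⟩ (by
      rw [← Subgroup.orderOf_coe]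
      exact orderOf_eq_prime (p := 2) (by rw [pow_two]; exact hu2) hu1))
    have hc' : (c : G) * z * (c : G)⁻¹ = u := congrArg Subtype.val hc
    have hyc : (c : G)⁻¹ * y * c ∈ C := by
      rw [hCdef, Subgroup.mem_centralizer_singleton_iff]
      calc (c : G)⁻¹ * y * c * z = (c : G)⁻¹ * (y * ((c : G) * z * (c : G)⁻¹)) * c := by group
        _ = (c : G)⁻¹ * (((c : G) * z * (c : G)⁻¹) * y) * c := by rw [hc', huy]
        _ = _ := by group
    have := Subgroup.orderOf_dvd_natCard C hyc
    rw [show (c : G)⁻¹ * y * c = MulAut.conj (c : G)⁻¹ y by simp, MulEquiv.orderOf_eq, hy3, h8] at this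
    norm_num at this
  · right
    obtain ⟨ψ⟩ := hψ
    let α : G →* Equiv.Perm (Fin 5) :=
      ((Cfsg.Agent.Lib.Alternating.autEquiv (α := Fin 5) (by simp) (by simp)).symm.toMonoidHom.comp
        (MulAut.congr ψ).toMonoidHom).comp (MulAut.conjNormal (H := H))
    have hα : Function.Injective α := by
      rw [← MonoidHom.ker_eq_bot_iff, Subgroup.eq_bot_iff_forall]
      intro w hw
      have hw' : MulAut.conjNormal (H := H) w = 1 :=
        (MulAut.congr ψ).injective (((Cfsg.Agent.Lib.Alternating.autEquiv (α := Fin 5) (by simp) (by simp)).symm.injective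
          (hw.trans (map_one _).symm)).trans (map_one _).symm)
      have hfix : ∀ h : ↥H, w * (h : G) * w⁻¹ = h := fun h => by
        have := congrArg (fun f : MulAut ↥H => ((f h : ↥H) : G)) hw'
        simpa [MulAut.conjNormal_apply] using this
      have hwC : w ∈ C := Subgroup.mem_centralizer_singleton_iff.2 (mul_inv_eq_iff_eq_mul.1 (hfix zH))
      -- `w` centralises the four-group, hence lies in it
      have key := key_four
      obtain ⟨v, hv⟩ : ∃ v : ↥(P : Subgroup ↥H), v ≠ 1 ∧ (v : ↥H) ≠ zH := by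
        by_contra hcon
        push_neg at hcon
        have hle : Nat.card ↥(P : Subgroup ↥H) ≤ 2 := by
          have hzP : zH ∈ (P : Subgroup ↥H) := hCH ▸ Subgroup.mem_centralizer_singleton_iff.2 rfl
          have hs : Function.Surjective (fun b : Bool => if b then (⟨zH, hzP⟩ : ↥(P : Subgroup ↥H)) else 1) := by
            intro v
            by_cases h : v = 1
            · exact ⟨false, by simp [h]⟩
            · exact ⟨true, Subtype.ext (by simp [hcon v h])⟩
          simpa using Nat.card_le_card_of_surjective _ hs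
        omega
      have hvC : ((v : ↥H) : G) ∈ C := (SetLike.ext_iff.1 hP _).1 v.2
      have hv2 : ((v : ↥H) : G) * (v : ↥H) = 1 := congrArg Subtype.val
        (Cfsg.Agent.Lib.Involutions.KleinSylow.sq_eq_one hKF v.2)
      have hwH : w ∈ H := by
        rcases key (e ⟨w, hwC⟩) (e ⟨_, hvC⟩) (e ⟨z, hzC⟩)
          (by rw [← map_mul, MulEquiv.map_eq_one_iff]; exact Subtype.ext hv2)
          (fun h1 => hv.1 (Subtype.ext (Subtype.ext (congrArg (fun x : ↥C => (x : G)) ((MulEquiv.map_eq_one_iff e).1 h1)))))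
          (fun h1 => hv.2 (Subtype.ext (congrArg (fun x : ↥C => (x : G)) (e.injective (h1.trans (map_self hz e hzC).symm)))))
          (map_self hz e hzC)
          (by rw [← map_mul, ← map_mul]; exact congrArg e (Subtype.ext (mul_inv_eq_iff_eq_mul.1 (hfix v.1)))) with h1 | h1 | h1 | h1
        · have : w = 1 := congrArg Subtype.val ((MulEquiv.map_eq_one_iff e).1 h1)
          rw [this]; exact H.one_mem
        · have : w = z := congrArg Subtype.val (e.injective h1)
          rw [this]; exact hzH
        · have : w = ((v : ↥H) : G) := congrArg Subtype.val (e.injective h1)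
          rw [this]; exact (v : ↥H).2
        · have : w = ((v : ↥H) : G) * z := congrArg Subtype.val (e.injective (h1.trans (map_mul e _ _).symm))
          rw [this]; exact H.mul_mem (v : ↥H).2 hzH
      by_contra hw1
      -- a central element of `A₅`
      have hc : ψ ⟨w, hwH⟩ ∈ Subgroup.center ↥(alternatingGroup (Fin 5)) := by
        rw [Subgroup.mem_center_iff]
        intro g
        obtain ⟨x, rfl⟩ := ψ.surjective g
        rw [← map_mul, ← map_mul]
        exact congrArg ψ (Subtype.ext (mul_inv_eq_iff_eq_mul.1 (hfix x)).symm)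
      have hperm : ((ψ ⟨w, hwH⟩ : ↥(alternatingGroup (Fin 5))) : Equiv.Perm (Fin 5)) = 1 := by
        refine Cfsg.Agent.Lib.Alternating.eq_one_of_commute_alt (by simp) fun k hk => ?_
        exact congrArg Subtype.val ((Subgroup.mem_center_iff.1 hc) ⟨k, hk⟩).symm
      have : ψ ⟨w, hwH⟩ = 1 := Subtype.ext hperm
      exact hw1 (congrArg Subtype.val ((MulEquiv.map_eq_one_iff ψ).1 this))
    refine ⟨MulEquiv.ofBijective α ((Nat.bijective_iff_injective_and_card _).2 ⟨hα, ?_⟩)⟩
    have hA5 : 2 * Nat.card ↥(alternatingGroup (Fin 5)) = Nat.card (Equiv.Perm (Fin 5)) :=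
      two_mul_nat_card_alternatingGroup
    rw [hGH, Nat.card_congr ψ.toEquiv, mul_comm, hA5]

end Cfsg.Agent.Lib.DihedralCentralizer
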