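/-
The centraliser of a double transposition in A₆ is dihedral of order 8.
-/
import Mathlib

set_option autoImplicit false

namespace Cfsg.Agent.Lib.DihedralCentralizer.AltSix

open Equiv

/-- A square root of the base double transposition. -/
def rotSix : Perm (Fin 6) := c[0, 2, 1, 3] * c[4, 5]

/-- An inverting involution. -/
def flipSix : Perm (Fin 6) := c[0, 1] * c[4, 5]

/-- The dihedral group mapped into `A₆`. -/
def dihFun : DihedralGroup 4 → Perm (Fin 6)
  | .r i => rotSix ^ i.val
  | .sr i => flipSix * rotSix ^ i.val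

theorem dihFun_mul : ∀ a b, dihFun (a * b) = dihFun a * dihFun b := by decide +kernel

theorem dihFun_injective : ∀ a b, dihFun a = dihFun b → a = b := by decide +kernel

theorem dihFun_mem : ∀ a, Perm.sign (dihFun a) = 1 ∧ dihFun a * (c[0, 1] * c[2, 3]) = (c[0, 1] * c[2, 3]) * dihFun a := by
  decide +kernel

theorem dihFun_surj : ∀ g : Perm (Fin 6), Perm.sign g = 1 →
    g * (c[0, 1] * c[2, 3]) = (c[0, 1] * c[2, 3]) * g → ∃ a, dihFun a = g := by
  decide +kernel

/-- The centraliser of any double transposition of `A₆` is dihedral of order 8. -/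
theorem nonempty_equiv (α : ↥(alternatingGroup (Fin 6))) (hα : orderOf α = 2)
    (hsupp : (α : Perm (Fin 6)).support.card = 4) :
    Nonempty (↥(Subgroup.centralizer ({α} : Set ↥(alternatingGroup (Fin 6)))) ≃* DihedralGroup 4) := by
  set β : Perm (Fin 6) := c[0, 1] * c[2, 3]
  have hα2 : (α : Perm (Fin 6)) * α = 1 := by
    have h : α * α = 1 := by rw [← pow_two, ← hα, pow_orderOf_eq_one]
    exact congrArg Subtype.val h
  have hex : ∃ g : Perm (Fin 6), g * β * g⁻¹ = (α : Perm (Fin 6)) := by
    refine isConj_iff.1 (Perm.isConj_iff_cycleType_eq.2 ?_)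
    have h2 : ∀ g : Perm (Fin 6), g * g = 1 → g.support.card = 4 → g.cycleType = ({2, 2} : Multiset ℕ) := by
      intro g hg hs
      have hall : ∀ n ∈ g.cycleType, n = 2 := fun n hn => by
        have h := Perm.dvd_of_mem_cycleType hn
        have h' : orderOf g ∣ 2 := orderOf_dvd_of_pow_eq_one (by rw [pow_two, hg])
        have := Nat.le_of_dvd (by norm_num) (h.trans h')
        have := Perm.two_le_of_mem_cycleType hn
        omega
      have hsum := Perm.sum_cycleType g
      rw [hs, Multiset.eq_replicate_card.2 hall, Multiset.sum_replicate, smul_eq_mul] at hsum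
      rw [Multiset.eq_replicate_card.2 hall, show Multiset.card g.cycleType = 2 by omega]
      rfl
    rw [h2 _ hα2 hsupp, h2 β (by decide) (by decide)]
  obtain ⟨g, hg⟩ := hex
  let ψ : DihedralGroup 4 →* Perm (Fin 6) :=
    (MulAut.conj g).toMonoidHom.comp (MonoidHom.mk' dihFun dihFun_mul)
  have hψ : ∀ a, ψ a = g * dihFun a * g⁻¹ := fun a => rfl
  have hsign : ∀ a, ψ a ∈ alternatingGroup (Fin 6) := fun a => by
    rw [Perm.mem_alternatingGroup, hψ, map_mul, map_mul, (dihFun_mem a).1, mul_one, ← map_mul,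
      mul_inv_cancel, map_one]
  let φ : DihedralGroup 4 →* ↥(alternatingGroup (Fin 6)) := ψ.codRestrict _ hsign
  have hcomm : ∀ a, φ a ∈ Subgroup.centralizer ({α} : Set ↥(alternatingGroup (Fin 6))) := fun a => by
    rw [Subgroup.mem_centralizer_singleton_iff]
    refine Subtype.ext ?_
    show ψ a * (α : Perm (Fin 6)) = (α : Perm (Fin 6)) * ψ a
    rw [hψ, ← hg]
    calc g * dihFun a * g⁻¹ * (g * β * g⁻¹) = g * (dihFun a * β) * g⁻¹ := by group
      _ = g * (β * dihFun a) * g⁻¹ := by rw [(dihFun_mem a).2]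
      _ = _ := by group
  refine ⟨(MulEquiv.ofBijective (φ.codRestrict _ hcomm) ⟨?_, ?_⟩).symm⟩
  · intro a b h
    have h' : ψ a = ψ b := congrArg (fun x => ((Subtype.val x : ↥(alternatingGroup (Fin 6))) : Perm (Fin 6))) h
    rw [hψ, hψ] at h'
    exact dihFun_injective a b (mul_left_cancel (mul_right_cancel h'))
  · rintro ⟨⟨x, hx⟩, hxc⟩
    rw [Subgroup.mem_centralizer_singleton_iff] at hxc
    have hxc' : x * (α : Perm (Fin 6)) = (α : Perm (Fin 6)) * x := congrArg Subtype.val hxc
    obtain ⟨a, ha⟩ := dihFun_surj (g⁻¹ * x * g)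
      (by rw [map_mul, map_mul, Perm.mem_alternatingGroup.1 hx, mul_one, ← map_mul, inv_mul_cancel, map_one])
      (by
        rw [← hg] at hxc'
        calc g⁻¹ * x * g * β = g⁻¹ * (x * (g * β * g⁻¹)) * g := by group
          _ = g⁻¹ * ((g * β * g⁻¹) * x) * g := by rw [hxc']
          _ = β * (g⁻¹ * x * g) := by group
          _ = _ := rfl)
    refine ⟨a, Subtype.ext (Subtype.ext ?_)⟩
    show ψ a = x
    rw [hψ, ha]; group

end Cfsg.Agent.Lib.DihedralCentralizer.AltSix
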